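import Groth.Agent.ConstTorsLib.Tors
import Groth.Prelude.Def_Red

/-!
# Constant groups are stable under base change
-/

set_option autoImplicit false
set_option backward.isDefEq.respectTransparency false
set_option linter.style.haveILetI false
universe u

open CategoryTheory CategoryTheory.Limits MonoidalCategory CartesianMonoidalCategory AlgebraicGeometry MonObj

namespace ConstTorsLib

variable {S T : Scheme.{u}} {Z : Type u} [Group Z]

/-- A disjoint covering family of sections which are open immersions identifies a scheme as constant. -/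
theorem exists_iso_const {H : Over T} (q : Z → (𝟙_ (Over T) ⟶ H)) [∀ m, IsOpenImmersion (q m).left]
    (hd : Pairwise fun m n => Disjoint (Set.range (q m).left.base) (Set.range (q n).left.base))
    (hs : ∀ x, ∃ m, x ∈ Set.range (q m).left.base) :
    ∃ e : H ≅ TwC.const T Z, ∀ m, TwC.pt T Z m ≫ e.inv = q m := by
  let c₀ : (∐ fun _ : Z => T) ⟶ H.left := Sigma.desc fun m => (q m).left
  haveI : ∀ m : Z, IsOpenImmersion ((fun m => (q m).left) m) := fun m => inferInstanceAs (IsOpenImmersion (q m).left)
  haveI : IsOpenImmersion c₀ := isOpenImmersion_sigmaDesc (fun _ : Z => T) (fun m => (q m).left) hd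
  haveI : IsIso c₀ := (isIso_iff_isOpenImmersion_and_epi_base _).2 ⟨inferInstance,
    (TopCat.epi_iff_surjective _).2 fun x => by
      obtain ⟨m, y, rfl⟩ := hs x
      exact ⟨Sigma.ι (fun _ : Z => T) m y, by rw [← Scheme.Hom.comp_apply, Sigma.ι_desc]; rfl⟩⟩
  let c : TwC.const T Z ⟶ H := Over.homMk c₀ (Sigma.hom_ext _ _ fun m => by
    simp only [c₀, Over.mk_hom, Sigma.ι_desc, Sigma.ι_desc_assoc]
    exact Over.w (q m))
  haveI : IsIso ((Over.forget T).map c) := ‹IsIso c₀›
  haveI : IsIso c := isIso_of_reflects_iso c (Over.forget T)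
  exact ⟨(asIso c).symm, fun m => Over.OverMorphism.ext (Sigma.ι_desc _ _)⟩

variable (g : T ⟶ S) {G : Over S} [GrpObj G] (eG : G ≅ TwC.const S Z)

/-- The base change of a constant section. -/
noncomputable def bcPiece (m : Z) : 𝟙_ (Over T) ⟶ Red.bc g G :=
  Functor.LaxMonoidal.ε (Over.pullback g) ≫ (Over.pullback g).map (ExtDescLib.piece eG m)

omit [Group Z] [GrpObj G] in
theorem bcPiece_fst (m : Z) : (bcPiece g eG m).left ≫ pullback.fst G.hom g = g ≫ (ExtDescLib.piece eG m).left := by
  have h : (Functor.LaxMonoidal.ε (Over.pullback g)).left ≫ pullback.fst (𝟙_ (Over S)).hom g = g := by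
    have h0 : pullback.fst (𝟙_ (Over S)).hom g = pullback.snd (𝟙_ (Over S)).hom g ≫ g := by
      rw [← pullback.condition]
      exact (Category.comp_id _).symm
    rw [h0, ← Category.assoc]
    exact (congrArg (· ≫ g) (Over.w (Functor.LaxMonoidal.ε (Over.pullback g)))).trans (Category.id_comp g)
  simp only [bcPiece, Over.comp_left, Over.pullback, Over.homMk_left, Category.assoc, pullback.lift_fst]
  exact (Category.assoc _ _ _).symm.trans (congrArg (· ≫ (ExtDescLib.piece eG m).left) h)

/-- The base change of a constant group is a constant group, with the base changed pieces. -/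
theorem exists_const_bc (hG : TwC.IsConstGrp Z G eG) :
    ∃ e : Red.bc g G ≅ TwC.const T Z, TwC.IsConstGrp Z (Red.bc g G) e ∧
      ∀ m, ExtDescLib.piece e m = bcPiece g eG m := by
  haveI : Etale G.hom := ExtDescLib.etale_hom eG
  haveI : IsSeparated G.hom := isSeparated_hom eG
  have hopen : ∀ m, IsOpenImmersion (bcPiece g eG m).left := fun m => by
    have hs : (bcPiece g eG m).left ≫ pullback.snd G.hom g = 𝟙 T := Over.w (bcPiece g eG m)
    haveI : Etale ((bcPiece g eG m).left ≫ pullback.snd G.hom g) := by rw [hs]; exact MorphismProperty.id_mem @Etale T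
    haveI : Etale (bcPiece g eG m).left := Etale.of_comp _ (pullback.snd G.hom g)
    haveI : Mono (𝟙 T) := ⟨fun a b h => (Category.comp_id a).symm.trans (h.trans (Category.comp_id b))⟩
    haveI : Mono (bcPiece g eG m).left := mono_of_mono_fac hs
    exact IsOpenImmersion.of_flat_of_mono _
  haveI := hopen
  have hsub : ∀ m x, x ∈ Set.range (bcPiece g eG m).left.base →
      pullback.fst G.hom g x ∈ Set.range (ExtDescLib.piece eG m).left.base := by
    rintro m _ ⟨y, rfl⟩
    refine ⟨g y, ?_⟩
    have e := congrArg (fun φ : T ⟶ G.left => φ y) (bcPiece_fst g eG m)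
    exact (Scheme.Hom.comp_apply g (ExtDescLib.piece eG m).left y).symm.trans (e.symm.trans (Scheme.Hom.comp_apply _ _ y))
  obtain ⟨e, he⟩ := exists_iso_const (bcPiece g eG) (fun m n hmn => Set.disjoint_left.2 fun x h1 h2 =>
      hmn (ExtDescLib.piece_unique eG (hsub m x h1) (hsub n x h2))) (fun x => by
    obtain ⟨m, hm⟩ := ExtDescLib.exists_piece eG (pullback.fst G.hom g x)
    refine ⟨m, ?_⟩
    let K := (Red.bc g G).left.residueField x
    let j : Spec K ⟶ (Red.bc g G).left := (Red.bc g G).left.fromSpecResidueField x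
    let fT : Spec K ⟶ T := j ≫ pullback.snd G.hom g
    let pt : Over.mk (fT ≫ g) ⟶ G := Over.homMk (j ≫ pullback.fst G.hom g) (by
      show (j ≫ pullback.fst G.hom g) ≫ G.hom = (j ≫ pullback.snd G.hom g) ≫ g
      rw [Category.assoc, Category.assoc, pullback.condition])
    have hpt := ExtDescLib.eq_piece eG pt m (by
      rintro _ ⟨y, rfl⟩
      show (j ≫ pullback.fst G.hom g) y ∈ _
      rw [Scheme.Hom.comp_apply]
      exact (Scheme.fromSpecResidueField_apply _ y).symm ▸ hm)
    have hj : j = fT ≫ (bcPiece g eG m).left := pullback.hom_ext (by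
        rw [Category.assoc, bcPiece_fst, ← Category.assoc]
        exact congrArg Over.Hom.left hpt) (by
        have hs : (bcPiece g eG m).left ≫ pullback.snd G.hom g = 𝟙 T := Over.w (bcPiece g eG m)
        rw [Category.assoc, hs, Category.comp_id])
    refine ⟨fT (IsLocalRing.closedPoint K), ?_⟩
    exact (Scheme.Hom.comp_apply fT (bcPiece g eG m).left _).symm.trans
      ((congrArg (fun φ : Spec K ⟶ (Red.bc g G).left => φ (IsLocalRing.closedPoint K)) hj.symm).trans
        (Scheme.fromSpecResidueField_apply _ _)))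
  refine ⟨e, fun m n => ?_, he⟩
  rw [he, he, he, bcPiece, bcPiece, bcPiece, ← MonObj.comp_mul, ← Functor.map_mul, ExtDescLib.piece_mul eG hG]

end ConstTorsLib
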