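import Groth.Agent.ConstTorsLib.Fibre
import Groth.Agent.HomRepLib.Descent
import Groth.Agent.DescHomLib.Epi
import Groth.Prelude.Def_ActBC

/-!
# Extensions of smooth connected groups by twisted lattices
-/

set_option autoImplicit false
set_option linter.style.haveILetI false
set_option backward.isDefEq.respectTransparency false
set_option maxHeartbeats 1000000
universe u

open CategoryTheory CategoryTheory.Limits MonoidalCategory CartesianMonoidalCategory AlgebraicGeometry MonObj

namespace ConstTorsLib

variable {S : Scheme.{u}}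

/-- Constant schemes on equivalent index types. -/
noncomputable def constULift (M : Type) : TwC.const S M ≅ TwC.const S (ULift.{u} M) where
  hom := TwC.constMap S ULift.up
  inv := TwC.constMap S ULift.down
  hom_inv_id := Over.OverMorphism.ext (Sigma.hom_ext _ _ fun m => by simp [TwC.constMap])
  inv_hom_id := Over.OverMorphism.ext (Sigma.hom_ext _ _ fun m => by simp [TwC.constMap])

theorem pt_constULift_inv {M : Type} (m : ULift.{u} M) :
    TwC.pt S (ULift.{u} M) m ≫ (constULift M).inv = TwC.pt S M m.down :=
  Over.OverMorphism.ext (by simp [constULift, TwC.constMap, TwC.pt])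

theorem isConstGrp_ulift {M : Type} [Group M] {G : Over S} [GrpObj G] (e : G ≅ TwC.const S M)
    (h : TwC.IsConstGrp M G e) : TwC.IsConstGrp (ULift.{u} M) G (e ≪≫ constULift M) := fun m n => by
  simp only [Iso.trans_inv, ← Category.assoc, pt_constULift_inv]
  exact h m.down n.down

variable {P E M : Over S} [GrpObj P] [GrpObj E] [GrpObj M]

/-- Two lifts to a scheme etale and separated over `X` agree if they agree at the unit section. -/
theorem ext_of_unit {X Y : Over S} (q : Y ⟶ X) [Etale q.left] [IsSeparated q.left] [GeometricallyConnected P.hom]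
    {T : Over S} (a b : P ⊗ T ⟶ Y) (h : a ≫ q = b ≫ q)
    (hu : lift (toUnit T ≫ η[P]) (𝟙 T) ≫ a = lift (toUnit T ≫ η[P]) (𝟙 T) ≫ b) : a = b := by
  haveI : GeometricallyConnected (snd P T).left :=
    TorsExtLib.property_snd (Q := @GeometricallyConnected) P T inferInstance
  refine Over.OverMorphism.ext (eq_of_section q.left a.left b.left (congrArg Over.Hom.left h) (snd P T).left
    (fun s => (Scheme.Hom.isConnected_preimage_singleton (snd P T).left s).isPreconnected)
    (lift (toUnit T ≫ η[P]) (𝟙 T)).left ?_ (congrArg Over.Hom.left hu))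
  rw [← Over.comp_left, lift_snd, Over.id_left]

variable (u : M ⟶ E) (v : E ⟶ P)

/-- The quotient map of an extension inherits the properties of the kernel. -/
theorem etale_and_isSeparated_quot (hloc : NonAbH1.IsLocallyTrivialFor Scheme.fppfPrecoverage
      (Over.mk v.left : Over P.left))
    (hpb : IsPullback (fst E M) ((E ◁ u) ≫ μ[E]) v v) (h1 : Etale M.hom) (h2 : IsSeparated M.hom) :
    Etale v.left ∧ IsSeparated v.left ∧ Surjective v.left := by
  have sqv : IsPullback (fst E M).left ((E ◁ u) ≫ μ[E]).left v.left v.left := hpb.map (Over.forget _)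
  obtain ⟨T, π, t, hf, hs, hl, hπ⟩ := ExtDescLib.hasCover_of_locallyTrivial v hloc
  haveI := hf; haveI := hs; haveI := hl
  haveI : Etale (fst E M).left := TorsExtLib.property_fst (Q := @Etale) E M h1
  haveI : IsSeparated (fst E M).left := TorsExtLib.property_fst (Q := @IsSeparated) E M h2
  have big := ((IsPullback.of_hasPullback t.left (fst E M).left).flip.paste_horiz sqv.flip).flip
  rw [show t.left ≫ v.left = π.left from congrArg Over.Hom.left hπ] at big
  have hQ : (@Surjective ⊓ @Flat ⊓ @LocallyOfFinitePresentation : MorphismProperty Scheme.{u}) π.left :=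
    ⟨⟨hs, hf⟩, hl⟩
  haveI : Etale (pullback.fst t.left (fst E M).left) := inferInstance
  haveI : IsSeparated (pullback.fst t.left (fst E M).left) := inferInstance
  refine ⟨MorphismProperty.of_isPullback_of_descendsAlong (P := @Etale) big hQ inferInstance, ?_, ?_⟩
  · have hd : (MorphismProperty.diagonal @UniversallyClosed) v.left :=
      MorphismProperty.of_isPullback_of_descendsAlong (P := MorphismProperty.diagonal @UniversallyClosed)
        big hQ (show UniversallyClosed (pullback.diagonal (pullback.fst t.left (fst E M).left)) from inferInstance)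
    haveI : UniversallyClosed (pullback.diagonal v.left) := hd
    exact ⟨IsClosedImmersion.of_isPreimmersion _ (Scheme.Hom.isClosedMap _).isClosed_range⟩
  · haveI : Surjective (t.left ≫ v.left) := by rw [← Over.comp_left, hπ]; infer_instance
    exact Surjective.of_comp t.left v.left

/-- A twisted constant scheme is etale and separated. -/
theorem etale_and_isSeparated_twConst {S' : Scheme.{u}} (f : S' ⟶ S) [Flat f] [Surjective f]
    (hcov : ∀ V : S.Opens, IsAffineOpen V → ∃ W : S'.Opens, IsCompact (W : Set S') ∧ f.base '' (W : Set S') = (V : Set S))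
    (U : S' → S'.Opens) (hU : ∀ s', s' ∈ U s')
    (h : ∀ s', ∃ I : Type u, Nonempty (Red.bc ((U s').ι ≫ f) M ≅ TwC.const (U s').toScheme I)) :
    Etale M.hom ∧ IsSeparated M.hom := by
  haveI : DescLib.Fpqc f := ⟨Groth.Agent.DescHom.singleton_mem_fpqc f hcov⟩
  have key : ∀ (Q : MorphismProperty Scheme.{u}) [IsZariskiLocalAtTarget Q],
      (∀ (X : Scheme.{u}) (I : Type u) (G : Over X), (G ≅ TwC.const X I) → Q G.hom) →
      Q (pullback.snd M.hom f) := by
    intro Q _ hQ
    refine IsZariskiLocalAtTarget.of_iSup_eq_top (P := Q) U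
      (top_le_iff.mp fun s _ => TopologicalSpace.Opens.mem_iSup.mpr ⟨s, hU s⟩) fun s' => ?_
    have sq := (isPullback_morphismRestrict (pullback.snd M.hom f) (U s')).flip.paste_horiz
      (IsPullback.of_hasPullback M.hom f)
    rw [← sq.isoPullback_hom_snd, Q.cancel_left_of_respectsIso]
    obtain ⟨I, ⟨e⟩⟩ := h s'
    exact hQ _ I (Red.bc ((U s').ι ≫ f) M) e
  constructor
  · exact Groth.Agent.HomRep.prop_of_isPullback_fpqc (@Etale) (IsPullback.of_hasPullback M.hom f)
      (key @Etale fun X I G e => ExtDescLib.etale_hom e)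
  · exact Groth.Agent.HomRep.isSeparated_of_isPullback_fpqc (IsPullback.of_hasPullback M.hom f)
      (key @IsSeparated fun X I G e => isSeparated_hom e)

section Piece

variable [IsCommMonObj E] [Smooth P.hom] [QuasiSeparated P.hom] [GeometricallyConnected P.hom]
  {U : Scheme.{u}} (j : U ⟶ S) {Z : Type u} [Group Z] (eG : Red.bc j M ≅ TwC.const U Z)

/-- Over a base where the kernel is constant and torsion free the extension splits. -/
theorem exists_section_piece (hG : TwC.IsConstGrp Z (Red.bc j M) eG) (hZ : ∀ z : Z, IsOfFinOrder z → z = 1)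
    (hum : IsMonHom u) (hvm : IsMonHom v) (huv : u ≫ v = 1) (hpb : IsPullback (fst E M) ((E ◁ u) ≫ μ[E]) v v)
    [Etale v.left] [IsSeparated v.left] [Surjective v.left] :
    ∃ s : P ⊗ (Over.map j).obj (𝟙_ (Over U)) ⟶ E, s ≫ v = fst _ _ ∧
      lift (toUnit _ ≫ η[P]) (𝟙 _) ≫ s = toUnit _ ≫ η[E] := by
  let Uo : Over S := (Over.map j).obj (𝟙_ (Over U))
  let adj := (Over.mapPullbackAdj j)
  let m : Z → (Uo ⟶ M) := fun z => (adj.homEquiv _ M).symm (ExtDescLib.piece eG z)
  have hm_mul : ∀ z w, m (z * w) = m z * m w := fun z w => by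
    apply (adj.homEquiv _ M).injective
    rw [AlgGrp.Action.homEquiv_mul]
    simp only [m, adj, Equiv.apply_symm_apply]
    exact (ExtDescLib.piece_mul eG hG z w).symm
  have hm_one : m 1 = 1 := mul_eq_left.1 (by rw [← hm_mul, _root_.mul_one] : m 1 * m 1 = m 1)
  let π : E ⊗ Uo ⟶ P ⊗ Uo := v ▷ Uo
  have sq : IsPullback (fst E Uo).left π.left v.left (fst P Uo).left := by
    refine IsPullback.of_bot ?_ (by rw [← Over.comp_left, ← Over.comp_left, whiskerRight_fst])
      (TorsExtLib.isPullback_fst_snd P Uo)
    have h : π.left ≫ (snd P Uo).left = (snd E Uo).left := by rw [← Over.comp_left, whiskerRight_snd]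
    rw [h, Over.w v]
    exact TorsExtLib.isPullback_fst_snd E Uo
  haveI : Etale π.left := MorphismProperty.of_isPullback sq inferInstance
  haveI : IsSeparated π.left := MorphismProperty.of_isPullback sq inferInstance
  haveI : Surjective π.left := MorphismProperty.of_isPullback sq inferInstance
  haveI : Smooth (snd P Uo).left := TorsExtLib.property_snd (Q := @Smooth) P Uo inferInstance
  haveI : QuasiSeparated (snd P Uo).left := TorsExtLib.property_snd (Q := @QuasiSeparated) P Uo inferInstance
  haveI : GeometricallyConnected (snd P Uo).left :=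
    TorsExtLib.property_snd (Q := @GeometricallyConnected) P Uo inferInstance
  let act : Z → (E ⊗ Uo ⟶ E ⊗ Uo) := fun z => lift (fst E Uo * (snd E Uo ≫ m z ≫ u)) (snd E Uo)
  have hone : ∀ {T : Over S} (g : T ⟶ M), (g ≫ u) ≫ v = 1 := fun g => by
    rw [Category.assoc, huv, MonObj.comp_one]
  haveI := hum; haveI := hvm
  have hactπ : ∀ z, act z ≫ π = π := fun z => by
    apply CartesianMonoidalCategory.hom_ext
    · simp only [act, π, Category.assoc, whiskerRight_fst, lift_fst_assoc, MonObj.mul_comp]
      have h := hone (m z)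
      rw [Category.assoc] at h
      rw [h, MonObj.comp_one, _root_.mul_one]
    · simp only [act, π, Category.assoc, whiskerRight_snd, lift_snd]
  obtain ⟨A⟩ : Nonempty (ZAct π.left Z) := by
    refine ⟨{
      act := fun z => (act z).left
      act_pi := fun z => by rw [← Over.comp_left, hactπ]
      act_one := ?_
      act_mul := fun z w => ?_
      unique := ?_ }⟩
    · have : act 1 = 𝟙 _ := by
        apply CartesianMonoidalCategory.hom_ext
        · simp only [act, lift_fst, hm_one, MonObj.one_comp, MonObj.comp_one, _root_.mul_one, Category.id_comp]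
        · simp only [act, lift_snd, Category.id_comp]
      rw [this, Over.id_left]
    · have : act (z * w) = act w ≫ act z := by
        apply CartesianMonoidalCategory.hom_ext
        · simp only [act, Category.assoc, lift_fst, MonObj.comp_mul, lift_snd_assoc]
          rw [hm_mul, MonObj.mul_comp, MonObj.comp_mul, _root_.mul_assoc,
            _root_.mul_comm (snd E Uo ≫ m z ≫ u)]
        · simp only [act, Category.assoc, lift_snd]
      rw [this, Over.comp_left]
    · intro K _ a b hab
      let fU : Spec (CommRingCat.of K) ⟶ U := a ≫ (snd E Uo).left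
      let T' : Over U := Over.mk fU
      let T : Over S := (Over.map j).obj T'
      have hw : a ≫ (E ⊗ Uo).hom = fU ≫ j := by
        rw [← Over.w (snd E Uo)]
        show a ≫ (snd E Uo).left ≫ (𝟙 U ≫ j) = (a ≫ (snd E Uo).left) ≫ j
        simp only [Category.assoc]
        exact congrArg (fun x => a ≫ (snd E Uo).left ≫ x) (Category.id_comp j)
      have hwb : b ≫ (E ⊗ Uo).hom = fU ≫ j := by
        rw [← hw, ← Over.w π, ← Category.assoc, ← Category.assoc, hab]
      let a' : T ⟶ E ⊗ Uo := Over.homMk a hw
      let b' : T ⟶ E ⊗ Uo := Over.homMk b hwb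
      have hab' : a' ≫ π = b' ≫ π := Over.OverMorphism.ext hab
      have hl : a' ≫ snd E Uo = (Over.map j).map (toUnit T') := Over.OverMorphism.ext rfl
      have hlb : b' ≫ snd E Uo = (Over.map j).map (toUnit T') := by
        rw [← hl, show snd E Uo = π ≫ snd P Uo from (whiskerRight_snd _ _).symm, reassoc_of% hab']
      have hv : (a' ≫ fst E Uo) ≫ v = (b' ≫ fst E Uo) ≫ v := by
        rw [Category.assoc, Category.assoc, show fst E Uo ≫ v = π ≫ fst P Uo from (whiskerRight_fst _ _).symm,
          reassoc_of% hab']
      obtain ⟨g, hg, hguniq⟩ := ExtDescLib.exists_ker u v hpb _ _ hv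
      have hcomp : ∀ z, a' ≫ act z = lift ((a' ≫ fst E Uo) * (((Over.map j).map (toUnit T') ≫ m z) ≫ u))
          ((Over.map j).map (toUnit T')) := fun z => by
        simp only [act, comp_lift, MonObj.comp_mul, ← hl, Category.assoc]
      have hnat : ∀ z, adj.homEquiv T' M ((Over.map j).map (toUnit T') ≫ m z) =
          toUnit T' ≫ ExtDescLib.piece eG z := fun z => by
        rw [Adjunction.homEquiv_naturality_left, Equiv.apply_symm_apply]
      obtain ⟨n, hn⟩ := exists_eq_piece eG fU (adj.homEquiv T' M g)
      have hgn : g = (Over.map j).map (toUnit T') ≫ m n :=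
        (adj.homEquiv T' M).injective (hn.trans (hnat n).symm)
      refine ⟨n, ?_, fun z hz => ?_⟩
      · have h : a' ≫ act n = b' := by
          rw [hcomp, ← hgn, hg, ← hlb]
          exact CartesianMonoidalCategory.hom_ext _ _ (by rw [lift_fst]) (by rw [lift_snd])
        exact congrArg Over.Hom.left h
      · have h : a' ≫ act z = b' := Over.OverMorphism.ext hz
        rw [hcomp] at h
        have h1 := congrArg (· ≫ fst E Uo) h
        rw [lift_fst] at h1
        have h2 := (hguniq _ h1).trans hgn
        exact piece_injective eG fU (by rw [← hnat, ← hnat, h2])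
  let e : Uo ⟶ E ⊗ Uo := lift (toUnit Uo ≫ η[E]) (𝟙 Uo)
  have he : e.left ≫ π.left ≫ (snd P Uo).left = 𝟙 _ := by
    rw [← Over.comp_left, ← Over.comp_left, show π ≫ snd P Uo = snd E Uo from whiskerRight_snd _ _, lift_snd,
      Over.id_left]
  obtain ⟨g, hg, heg⟩ := exists_section_of_torsionFree (snd P Uo).left π.left A hZ e.left he
  have hgw : g ≫ (E ⊗ Uo).hom = (P ⊗ Uo).hom := by rw [← Over.w π, reassoc_of% hg]
  let g' : P ⊗ Uo ⟶ E ⊗ Uo := Over.homMk g hgw
  have hg' : g' ≫ π = 𝟙 _ := Over.OverMorphism.ext hg
  have heg' : (e ≫ π) ≫ g' = e := Over.OverMorphism.ext heg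
  refine ⟨g' ≫ fst E Uo, ?_, ?_⟩
  · rw [Category.assoc, show fst E Uo ≫ v = π ≫ fst P Uo from (whiskerRight_fst _ _).symm, reassoc_of% hg']
  · have h : e ≫ π = lift (toUnit Uo ≫ η[P]) (𝟙 Uo) := by
      rw [show π = v ▷ Uo from rfl, lift_whiskerRight, Category.assoc, IsMonHom.one_hom]
    rw [h] at heg'
    rw [reassoc_of% heg', lift_fst]

end Piece

end ConstTorsLib
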