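import Groth.Agent.ConstTorsLib.Normal

/-!
# Torsors under torsion free constant groups over smooth schemes with connected fibres and a marked section
-/

set_option autoImplicit false
set_option backward.isDefEq.respectTransparency false
universe u

open CategoryTheory CategoryTheory.Limits AlgebraicGeometry

namespace ConstTorsLib

variable {P E : Scheme.{u}} {π : E ⟶ P} {Z : Type u} [Group Z]

/-- Base change of an action. -/
theorem ZAct.exists_baseChange (A : ZAct π Z) {P' : Scheme.{u}} (h : P' ⟶ P) :
    Nonempty (ZAct (pullback.snd π h) Z) := by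
  let act' : Z → (pullback π h ⟶ pullback π h) := fun z =>
    pullback.map π h π h (A.act z) (𝟙 _) (𝟙 _) (by rw [Category.comp_id, A.act_pi]) (by rw [Category.comp_id, Category.id_comp])
  have hfst : ∀ z, act' z ≫ pullback.fst π h = pullback.fst π h ≫ A.act z := fun z => pullback.lift_fst _ _ _
  have hsnd : ∀ z, act' z ≫ pullback.snd π h = pullback.snd π h := fun z =>
    (pullback.lift_snd _ _ _).trans (Category.comp_id _)
  refine ⟨{
    act := act'
    act_pi := hsnd
    act_one := ?_
    act_mul := fun z w => ?_
    unique := ?_ }⟩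
  · apply pullback.hom_ext
    · rw [hfst, A.act_one, Category.comp_id, Category.id_comp]
    · rw [hsnd, Category.id_comp]
  · apply pullback.hom_ext
    · rw [hfst, A.act_mul, Category.assoc, hfst, reassoc_of% (hfst w)]
    · rw [hsnd, Category.assoc, hsnd, hsnd]
  · intro K _ a b hab
    have h' : (a ≫ pullback.fst π h) ≫ π = (b ≫ pullback.fst π h) ≫ π := by
      rw [Category.assoc, Category.assoc, pullback.condition, reassoc_of% hab]
    obtain ⟨z, hz, huniq⟩ := A.unique K _ _ h'
    refine ⟨z, ?_, fun y hy => huniq y ?_⟩
    · apply pullback.hom_ext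
      · rw [Category.assoc, hfst, ← Category.assoc, hz]
      · rw [Category.assoc, hsnd, hab]
    · show (a ≫ pullback.fst π h) ≫ A.act y = _
      rw [← hy, Category.assoc, Category.assoc, hfst]

variable {S : Scheme.{u}} (p : P ⟶ S) [Smooth p] [GeometricallyConnected p]

/-- Torsors under torsion free groups are trivial on the fibres. -/
theorem exists_section_fibre (π : E ⟶ P) [Etale π] [IsSeparated π] [Surjective π] (A : ZAct π Z)
    (hZ : ∀ z : Z, IsOfFinOrder z → z = 1) (s : S) :
    ∃ σ : pullback p (S.fromSpecResidueField s) ⟶ E, σ ≫ π = pullback.fst p _ := by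
  let h := pullback.fst p (S.fromSpecResidueField s)
  obtain ⟨A'⟩ := A.exists_baseChange h
  haveI := irreducibleSpace_pullback p (S.fromSpecResidueField s)
  haveI : Smooth (pullback.snd p (S.fromSpecResidueField s)) := MorphismProperty.pullback_snd _ _ inferInstance
  obtain ⟨g, hg⟩ := exists_section_of_isDomain (pullback.snd π h) A' hZ
    (isDomain_stalk_of_smooth_valuationRing (V := S.residueField s)
      (pullback.snd π h ≫ pullback.snd p (S.fromSpecResidueField s)))
  exact ⟨g ≫ pullback.fst π h, by rw [Category.assoc, pullback.condition, reassoc_of% hg]⟩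

/-- A torsor under a torsion free group on a smooth scheme with connected fibres is trivial once it is trivial
along a section. -/
theorem exists_section_of_torsionFree [QuasiSeparated p] (π : E ⟶ P) [Etale π] [IsSeparated π] [Surjective π]
    (A : ZAct π Z) (hZ : ∀ z : Z, IsOfFinOrder z → z = 1) (e : S ⟶ E) (he : e ≫ π ≫ p = 𝟙 S) :
    ∃ g : P ⟶ E, g ≫ π = 𝟙 P ∧ (e ≫ π) ≫ g = e :=
  exists_section p π (hasSheets_of_sections p π A (exists_section_fibre p π A hZ)) e he

end ConstTorsLib
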