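import Groth.Agent.ConstTorsLib.Sheet

/-!
# The sheets through a section are stable under generisation
-/

set_option autoImplicit false
set_option backward.isDefEq.respectTransparency false
universe u

open CategoryTheory CategoryTheory.Limits AlgebraicGeometry TopologicalSpace Topology

namespace ConstTorsLib

variable {S P E : Scheme.{u}} (p : P ⟶ S) (π : E ⟶ P)

/-- The local rings of a scheme smooth over a valuation ring are domains. -/
theorem isDomain_stalk_of_smooth_valuationRing {V : Type u} [CommRing V] [IsDomain V] [ValuationRing V]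
    {X : Scheme.{u}} (f : X ⟶ Spec (CommRingCat.of V)) [Smooth f] (x : X) : IsDomain (X.presheaf.stalk x) := by
  refine ((Unram17Lib.normal_stalk_iff_of_smooth f (x := x)
    (by rw [Scheme.Hom.smoothLocus_eq_top]; trivial)).2 ?_).1
  let P : PrimeSpectrum V := f x
  let e : (Spec (CommRingCat.of V)).presheaf.stalk (f x) ≃+* Localization.AtPrime P.asIdeal :=
    (Spec.stalkIso (CommRingCat.of V) P).commRingCatIsoToRingEquiv
  refine (Unram17Lib.normal_congr e.symm).1 ⟨inferInstance, ?_⟩
  exact isIntegrallyClosed_of_isLocalization _ P.asIdeal.primeCompl P.asIdeal.primeCompl_le_nonZeroDivisors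

/-- In a scheme with integral local rings, two comparable points have a common most general generisation. -/
theorem exists_greatest_generization {X : Scheme.{u}} (hX : ∀ x : X, IsDomain (X.presheaf.stalk x)) (x : X) :
    ∃ θ : X, θ ⤳ x ∧ ∀ y : X, y ⤳ x → θ ⤳ y := by
  haveI := hX x
  let b : Spec (X.presheaf.stalk x) := (⟨⊥, Ideal.isPrime_bot⟩ : PrimeSpectrum (X.presheaf.stalk x))
  refine ⟨X.fromSpecStalk x b, ?_, fun y hy => ?_⟩
  · have h : X.fromSpecStalk x b ∈ Set.range (X.fromSpecStalk x) := ⟨b, rfl⟩
    rwa [X.range_fromSpecStalk] at h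
  · obtain ⟨c, rfl⟩ : y ∈ Set.range (X.fromSpecStalk x) := by rw [X.range_fromSpecStalk]; exact hy
    exact ((PrimeSpectrum.le_iff_specializes b c).1 bot_le).map (X.fromSpecStalk x).continuous

variable [Smooth p] [GeometricallyConnected p] [Etale π] [IsSeparated π] (hs : HasSheets p π)
  (e : S ⟶ E) (he : e ≫ π ≫ p = 𝟙 S)

/-- A point on the sheet through the given section. -/
def Good (x : E) : Prop := gen p π hs x = gen p π hs (e (p (π x)))

include he in
omit [Smooth p] [GeometricallyConnected p] [Etale π] [IsSeparated π] in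
theorem apply_section (t : S) : p (π (e t)) = t := by
  rw [← Scheme.Hom.comp_apply, ← Scheme.Hom.comp_apply, he]
  rfl

omit [GeometricallyConnected p] in
theorem good_gen_iff [GeometricallyConnected p] (x : E) : Good p π hs e (gen p π hs x) ↔ Good p π hs e x := by
  rw [Good, gen_gen, (gen_spec p π hs x).2.1]
  exact Iff.rfl

include he in
theorem good_of_specializes {ξ x : E} (h : ξ ⤳ x) (hx : Good p π hs e x) : Good p π hs e ξ := by
  obtain ⟨A, _, _, _, g, l, hgx, hl⟩ :=
    AlgSpRegLib.exists_valuationRing_of_specializes (E.fromSpecResidueField ξ)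
      (IsLocalRing.closedPoint (E.residueField ξ)) (v := x) (by rwa [Scheme.fromSpecResidueField_apply])
  haveI : Smooth (π ≫ p) := inferInstance
  let K := FractionRing A
  let ηm : Spec (CommRingCat.of K) ⟶ Spec (CommRingCat.of A) := Spec.map (CommRingCat.ofHom (algebraMap A K))
  let η : Spec (CommRingCat.of A) := ηm (IsLocalRing.closedPoint K)
  let m : Spec (CommRingCat.of A) := IsLocalRing.closedPoint A
  have hη : η.asIdeal = ⊥ := by
    show (IsLocalRing.closedPoint K).asIdeal.comap (algebraMap A K) = ⊥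
    have h0 : (IsLocalRing.closedPoint K).asIdeal = ⊥ := IsLocalRing.maximalIdeal_eq_bot
    rw [h0, Ideal.comap_bot_of_injective _ (IsFractionRing.injective A K)]
  have hηmin : ∀ z : Spec (CommRingCat.of A), η ⤳ z := fun z =>
    (PrimeSpectrum.le_iff_specializes η z).1 (by show η.asIdeal ≤ z.asIdeal; rw [hη]; exact bot_le)
  have hgη : g η = ξ := by
    show g (ηm _) = ξ
    rw [← Scheme.Hom.comp_apply, ← hl, Scheme.Hom.comp_apply]
    exact Scheme.fromSpecResidueField_apply _ _
  let f := g ≫ π ≫ p
  have hfη : f η = p (π ξ) := by rw [← hgη]; rfl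
  have hfm : f m = p (π x) := by rw [← hgx]; rfl
  let E' := pullback (π ≫ p) f
  let a : Spec (CommRingCat.of A) ⟶ E' :=
    pullback.lift (f ≫ e) (𝟙 _) (by rw [Category.assoc, he, Category.comp_id, Category.id_comp])
  let c : Spec (CommRingCat.of A) ⟶ E' := pullback.lift g (𝟙 _) (by rw [Category.id_comp])
  have hac : ∀ z, pullback.fst (π ≫ p) f (a z) = e (f z) ∧ pullback.fst (π ≫ p) f (c z) = g z := fun z => by
    constructor
    · rw [← Scheme.Hom.comp_apply, pullback.lift_fst]; rfl
    · rw [← Scheme.Hom.comp_apply, pullback.lift_fst]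
  haveI : Smooth (pullback.snd (π ≫ p) f) := MorphismProperty.pullback_snd _ _ inferInstance
  have hdom : ∀ z : E', IsDomain (E'.presheaf.stalk z) :=
    isDomain_stalk_of_smooth_valuationRing (pullback.snd (π ≫ p) f)
  -- a common generisation of the two points over the closed point
  obtain ⟨θ', hθa, hθc⟩ : ∃ θ' : E', θ' ⤳ a m ∧ θ' ⤳ c m := by
    generalize hts : p (π x) = s at hfm
    obtain ⟨σ, hσ, hxσ⟩ : ∃ σ : pullback p (S.fromSpecResidueField s) ⟶ E,
        σ ≫ π = pullback.fst p _ ∧ x ∈ Set.range σ.base := by subst hts; exact hs x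
    have hes : e s ∈ Set.range σ.base := by
      rw [range_sigma p π hs σ hσ hxσ]
      refine ⟨apply_section p π e he s, ?_⟩
      have hx' : gen p π hs x = gen p π hs (e (p (π x))) := hx
      rw [hts] at hx'
      exact hx'.symm
    let L : Type u := (Spec (CommRingCat.of A)).residueField m
    let jm : Spec (CommRingCat.of L) ⟶ Spec (CommRingCat.of A) := (Spec (CommRingCat.of A)).fromSpecResidueField m
    obtain ⟨h₀, hh⟩ : ∃ h₀ : Spec (CommRingCat.of L) ⟶ Spec (S.residueField s),
        h₀ ≫ S.fromSpecResidueField s = jm ≫ f := by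
      subst hfm
      exact ⟨Spec.map (f.residueFieldMap m), f.SpecMap_residueFieldMap_fromSpecResidueField m⟩
    let k : pullback p (jm ≫ f) ⟶ pullback p (S.fromSpecResidueField s) :=
      pullback.lift (pullback.fst _ _) (pullback.snd _ _ ≫ h₀) (by rw [Category.assoc, hh, pullback.condition])
    let σ' : pullback p (jm ≫ f) ⟶ E' := pullback.lift (k ≫ σ) (pullback.snd _ _ ≫ jm) (by
      rw [Category.assoc, reassoc_of% hσ, pullback.lift_fst_assoc, pullback.condition, Category.assoc])
    haveI := irreducibleSpace_pullback p (jm ≫ f)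
    have hmem : ∀ α : Spec (CommRingCat.of L) ⟶ E, α ≫ π ≫ p = jm ≫ f →
        α (IsLocalRing.closedPoint L) ∈ Set.range σ.base → ∀ r : Spec (CommRingCat.of A) ⟶ E',
        jm ≫ r ≫ pullback.fst _ _ = α → r ≫ pullback.snd _ _ = 𝟙 _ → r m ∈ Set.range σ'.base := by
      intro α hα hαr r hr1 hr2
      let β : Spec (CommRingCat.of L) ⟶ pullback p (jm ≫ f) :=
        pullback.lift (α ≫ π) (𝟙 _) (by rw [Category.assoc, hα, Category.id_comp])
      have hβπ : (β ≫ k ≫ σ) ≫ π = α ≫ π := by
        simp only [Category.assoc, hσ, k, pullback.lift_fst, β]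
      have h1 : β ≫ k ≫ σ = α := by
        refine eq_of_residue π _ _ hβπ ?_ (residue_surjective p π hs _)
        have h0 : π ((β ≫ k ≫ σ) (IsLocalRing.closedPoint L)) = π (α (IsLocalRing.closedPoint L)) := by
          rw [← Scheme.Hom.comp_apply, ← Scheme.Hom.comp_apply, hβπ]
        refine eq_of_pi_of_gen p π hs h0 ?_
        have r1 := (range_sigma p π hs σ hσ hxσ).le ⟨(β ≫ k) (IsLocalRing.closedPoint L), rfl⟩
        have r2 := (range_sigma p π hs σ hσ hxσ).le hαr
        rw [← r2.2] at r1
        rw [← Category.assoc, Scheme.Hom.comp_apply]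
        exact r1.2
      have h2 : β ≫ σ' = jm ≫ r := by
        apply pullback.hom_ext
        · rw [Category.assoc, pullback.lift_fst, h1, Category.assoc, hr1]
        · rw [Category.assoc, pullback.lift_snd, pullback.lift_snd_assoc, Category.id_comp, Category.assoc, hr2,
            Category.comp_id]
      refine ⟨β (IsLocalRing.closedPoint L), ?_⟩
      rw [← Scheme.Hom.comp_apply, h2, Scheme.Hom.comp_apply]
      exact congrArg r.base (Scheme.fromSpecResidueField_apply _ _)
    have hjm : jm (IsLocalRing.closedPoint L) = m := Scheme.fromSpecResidueField_apply _ _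
    obtain ⟨ya, hya⟩ := hmem (jm ≫ f ≫ e) (by simp only [Category.assoc, he, Category.comp_id]) (by
        rw [Scheme.Hom.comp_apply, Scheme.Hom.comp_apply, hjm, hfm]; exact hes)
      a (by rw [pullback.lift_fst]) (pullback.lift_snd _ _ _)
    obtain ⟨yc, hyc⟩ := hmem (jm ≫ g) (by rw [Category.assoc]) (by
        rw [Scheme.Hom.comp_apply, hjm]; exact (show g m = x from hgx) ▸ hxσ)
      c (by rw [pullback.lift_fst]) (pullback.lift_snd _ _ _)
    exact ⟨σ' (genericPoint _), hya ▸ (genericPoint_specializes ya).map σ'.continuous,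
      hyc ▸ (genericPoint_specializes yc).map σ'.continuous⟩
  obtain ⟨Θ, hΘ, hΘmax⟩ := exists_greatest_generization hdom θ'
  obtain ⟨Θa, hΘa, hΘamax⟩ := exists_greatest_generization hdom (a m)
  obtain ⟨Θc, hΘc, hΘcmax⟩ := exists_greatest_generization hdom (c m)
  have ea : Θ ⤳ a η := ((hΘmax _ (hΘamax θ' hθa)).trans (hΘamax _ ((hηmin m).map a.continuous)))
  have ec : Θ ⤳ c η := ((hΘmax _ (hΘcmax θ' hθc)).trans (hΘcmax _ ((hηmin m).map c.continuous)))
  have hqΘ : pullback.snd (π ≫ p) f Θ = η := by
    have h1 := ea.map (pullback.snd (π ≫ p) f).continuous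
    rw [← Scheme.Hom.comp_apply, pullback.lift_snd] at h1
    exact (h1.antisymm (hηmin _)).eq
  have hq : p (π (pullback.fst (π ≫ p) f Θ)) = p (π ξ) := by
    rw [← Scheme.Hom.comp_apply, ← Scheme.Hom.comp_apply, pullback.condition, Scheme.Hom.comp_apply, hqΘ, hfη]
  have ha' := ea.map (pullback.fst (π ≫ p) f).continuous
  have hc' := ec.map (pullback.fst (π ≫ p) f).continuous
  rw [(hac η).1, hfη] at ha'
  rw [(hac η).2, hgη] at hc'
  exact (gen_eq_of_specializes p π hs hc' hq).symm.trans
    (gen_eq_of_specializes p π hs ha' (hq.trans (apply_section p π e he _).symm))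

end ConstTorsLib
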