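import Groth.Agent.ConstTorsLib.Unibranch
import Groth.Prelude.Def_Red

/-!
# Morphisms to constant schemes extend from the generic fibre
-/

set_option autoImplicit false
set_option backward.isDefEq.respectTransparency false
set_option linter.style.haveILetI false
universe u

open CategoryTheory CategoryTheory.Limits AlgebraicGeometry TopologicalSpace Topology MonoidalCategory CartesianMonoidalCategory

namespace ConstTorsLib

variable {S : Scheme.{u}} [IrreducibleSpace S] (hS : ∀ s : S, CAlg2.IsGeomUnibranch (S.presheaf.stalk s))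
  {ξ : S} (hξ : IsGenericPoint ξ (Set.univ : Set S)) {Z : Type u} [Group Z] {G : Over S} [GrpObj G]
  (eG : G ≅ TwC.const S Z) {X : Over S} [Smooth X.hom]

omit [IrreducibleSpace S] in
include hξ eG in
/-- Two morphisms to a constant scheme agreeing on the generic fibre agree. -/
theorem eq_of_generic {a b : X ⟶ G}
    (h : (Over.pullback (S.fromSpecResidueField ξ)).map a = (Over.pullback (S.fromSpecResidueField ξ)).map b) :
    a = b := by
  haveI : Etale G.hom := ExtDescLib.etale_hom eG
  haveI : IsSeparated G.hom := isSeparated_hom eG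
  let pr := pullback.fst X.hom (S.fromSpecResidueField ξ)
  have hab : pr ≫ a.left = pr ≫ b.left := by
    have e := congrArg (fun φ => φ.left ≫ pullback.fst G.hom (S.fromSpecResidueField ξ)) h
    simp only [Over.pullback, Over.homMk_left, pullback.lift_fst] at e
    exact e
  obtain ⟨U, hUc, hU, hmax⟩ := exists_clopen_eq G.hom a.left b.left ((Over.w a).trans (Over.w b).symm)
  have huniv : ∀ x : X.left, x ∈ U := fun x => by
    obtain ⟨y, hy, hys⟩ := UnramGULib.exists_generization_of_flat X.hom x (hξ.specializes (Set.mem_univ (X.hom x)))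
    obtain ⟨z, rfl⟩ : y ∈ Set.range pr.base := by
      rw [Scheme.Pullback.range_fst, Scheme.range_fromSpecResidueField]; exact hys
    exact hy.mem_closed hUc (hmax _ pr hab ⟨z, rfl⟩)
  haveI : IsIso U.ι := (isIso_iff_isOpenImmersion_and_epi_base _).2
    ⟨inferInstance, (TopCat.epi_iff_surjective _).2 fun x => ⟨⟨x, huniv x⟩, rfl⟩⟩
  exact Over.OverMorphism.ext ((cancel_epi U.ι).1 hU)

include hS hξ eG in
/-- A morphism from the generic fibre to a constant scheme extends. -/
theorem exists_extend (h : Red.bc (S.fromSpecResidueField ξ) X ⟶ Red.bc (S.fromSpecResidueField ξ) G) :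
    ∃ f : X ⟶ G, (Over.pullback (S.fromSpecResidueField ξ)).map f = h := by
  have hP : HasGen X.left := hasGen_of_smooth X.hom hS
  let i := S.fromSpecResidueField ξ
  let pr := pullback.fst X.hom i
  let hG' : pullback X.hom i ⟶ G.left := h.left ≫ pullback.fst G.hom i
  have hξ' : genericPoint S = ξ := ((genericPoint_spec S).eq hξ)
  have hfib : ∀ y : X.left, maxGen hP y ∈ Set.range pr.base := fun y => by
    rw [Scheme.Pullback.range_fst, Scheme.range_fromSpecResidueField]
    obtain ⟨h1, h2⟩ := (hP y).choose_spec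
    obtain ⟨y', hy', hy's⟩ := UnramGULib.exists_generization_of_flat X.hom (maxGen hP y)
      (hξ.specializes (Set.mem_univ (X.hom (maxGen hP y))))
    have e : y' = maxGen hP y := ((h2 y' (hy'.trans h1)).antisymm hy').eq.symm
    exact e ▸ hy's
  choose x₀ hx₀ using hfib
  choose z hz using fun y => ExtDescLib.exists_piece eG (hG'.base (x₀ y))
  have hzmax : ∀ y y', maxGen hP y = maxGen hP y' → z y = z y' := fun y y' e => by
    refine ExtDescLib.piece_unique eG (hz y) ?_
    have : x₀ y = x₀ y' := pr.isEmbedding.injective (by rw [hx₀, hx₀, e])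
    rw [this]
    exact hz y'
  -- the value at points of the generic fibre
  have hval : ∀ x, hG'.base x ∈ Set.range (ExtDescLib.piece eG (z (pr.base x))).left.base := fun x => by
    have h1 : x₀ (pr.base x) ⤳ x := pr.isEmbedding.isInducing.specializes_iff.1 (by
      rw [hx₀]; exact (hP _).choose_spec.1)
    exact (h1.map hG'.continuous).mem_closed (ExtDescLib.isClopen_piece eG _).1 (hz _)
  let W : Z → X.left.Opens := fun m => ⟨{y | z y = m}, isOpen_iff_forall_mem_open.2 fun y hy =>
    ⟨{y' | maxGen hP y' = maxGen hP y}, fun y' hy' => (hzmax y' y hy').trans hy,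
      isOpen_maxGen_eq X.hom hP _, rfl⟩⟩
  let σ : ∀ m, (W m).toScheme ⟶ G.left := fun m => (W m).ι ≫ X.hom ≫ (ExtDescLib.piece eG m).left
  let 𝒰 := Scheme.openCoverOfIsOpenCover X.left W
    (top_le_iff.mp fun y _ => Opens.mem_iSup.mpr ⟨z y, rfl⟩)
  have hagree : ∀ a b : Z, pullback.fst (𝒰.f a) (𝒰.f b) ≫ σ a = pullback.snd (𝒰.f a) (𝒰.f b) ≫ σ b := fun a b => by
    by_cases h : a = b
    · subst h
      rw [fst_eq_snd_of_mono_eq]
    · haveI : IsEmpty (pullback (𝒰.f a) (𝒰.f b) : Scheme.{u}) := ⟨fun w => h (by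
        have e := congrArg (fun φ : pullback (𝒰.f a) (𝒰.f b) ⟶ X.left => φ w) pullback.condition
        have ea : z ((pullback.fst (𝒰.f a) (𝒰.f b) ≫ 𝒰.f a) w) = a := ((pullback.fst (𝒰.f a) (𝒰.f b)) w).2
        have eb : z ((pullback.snd (𝒰.f a) (𝒰.f b) ≫ 𝒰.f b) w) = b := ((pullback.snd (𝒰.f a) (𝒰.f b)) w).2
        exact ea.symm.trans ((congrArg z e).trans eb))⟩
      exact isInitialOfIsEmpty.hom_ext _ _
  let f₀ := 𝒰.glueMorphisms σ hagree
  have hf₀ : ∀ m, (W m).ι ≫ f₀ = σ m := fun m => 𝒰.ι_glueMorphisms _ _ m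
  have hpiece : ∀ m, (ExtDescLib.piece eG m).left ≫ G.hom = 𝟙 S := fun m => Over.w (ExtDescLib.piece eG m)
  let f : X ⟶ G := Over.homMk f₀ (𝒰.hom_ext _ _ fun m => by
    show (W m).ι ≫ f₀ ≫ G.hom = (W m).ι ≫ X.hom
    rw [reassoc_of% (hf₀ m)]
    simp only [σ, Category.assoc]
    exact congrArg (fun x => (W m).ι ≫ X.hom ≫ x) (hpiece m) |>.trans (by rw [Category.comp_id]))
  refine ⟨f, Over.OverMorphism.ext (pullback.hom_ext ?_ ?_)⟩
  · simp only [Over.pullback, Over.homMk_left, pullback.lift_fst]
    show pr ≫ f₀ = hG'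
    let V : Z → (pullback X.hom i).Opens := fun m => pr ⁻¹ᵁ W m
    refine (Scheme.openCoverOfIsOpenCover _ V
      (top_le_iff.mp fun x _ => Opens.mem_iSup.mpr ⟨z (pr.base x), rfl⟩)).hom_ext _ _ fun m => ?_
    show (V m).ι ≫ pr ≫ f₀ = (V m).ι ≫ hG'
    rw [← morphismRestrict_ι_assoc, hf₀]
    simp only [σ, morphismRestrict_ι_assoc]
    let T : Over S := Over.mk ((V m).ι ≫ pr ≫ X.hom)
    let g : T ⟶ G := Over.homMk ((V m).ι ≫ hG') (by
      show ((V m).ι ≫ h.left ≫ pullback.fst G.hom i) ≫ G.hom = (V m).ι ≫ pr ≫ X.hom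
      simp only [Category.assoc, pullback.condition]
      have hw : h.left ≫ pullback.snd G.hom i = pullback.snd X.hom i := Over.w h
      rw [reassoc_of% hw]
      show (V m).ι ≫ pullback.snd X.hom i ≫ i = (V m).ι ≫ pullback.fst X.hom i ≫ X.hom
      rw [pullback.condition])
    have hg := ExtDescLib.eq_piece eG g m (by
      rintro _ ⟨x, rfl⟩
      have h1 := hval ((V m).ι x)
      rw [show z (pr.base ((V m).ι x)) = m from x.2] at h1
      exact h1)
    exact (congrArg Over.Hom.left hg).symm
  · simp only [Over.pullback, Over.homMk_left, pullback.lift_snd]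
    exact (Over.w h).symm

end ConstTorsLib
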