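import Groth.Agent.ConstTorsLib.Tors
import Groth.Agent.WeightLib.EtaleQF

/-!
# Torsors under torsion free constant groups over normal integral schemes
-/

set_option autoImplicit false
set_option backward.isDefEq.respectTransparency false
universe u

open CategoryTheory CategoryTheory.Limits AlgebraicGeometry TopologicalSpace

namespace ConstTorsLib

theorem finite_residueField {X Y : Scheme.{u}} (f : X ⟶ Y) [Etale f] (x : X) :
    letI : Algebra (Y.residueField (f x)) (X.residueField x) := (f.residueFieldMap x).hom.toAlgebra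
    Module.Finite (Y.residueField (f x)) (X.residueField x) := by
  algebraize [(f.stalkMap x).hom]
  have : IsLocalHom (algebraMap (Y.presheaf.stalk (f x)) (X.presheaf.stalk x)) :=
    inferInstanceAs <| IsLocalHom (f.stalkMap x).hom
  have : Algebra.EssFiniteType (Y.presheaf.stalk (f x)) (X.presheaf.stalk x) := by
    rw [← RingHom.essFiniteType_algebraMap, RingHom.algebraMap_toAlgebra]
    exact LocallyOfFiniteType.stalkMap f x
  have : Algebra.FormallyUnramified (Y.presheaf.stalk (f x)) (X.presheaf.stalk x) := by
    rw [← RingHom.formallyUnramified_algebraMap, RingHom.algebraMap_toAlgebra]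
    exact FormallyUnramified.stalkMap f x
  suffices h : Module.Finite (IsLocalRing.ResidueField (Y.presheaf.stalk (f x)))
      (IsLocalRing.ResidueField (X.presheaf.stalk x)) by
    have e : algebraMap (IsLocalRing.ResidueField (Y.presheaf.stalk (f x)))
        (IsLocalRing.ResidueField (X.presheaf.stalk x)) = (f.residueFieldMap x).hom := by
      refine RingHom.ext fun a => ?_
      obtain ⟨a, rfl⟩ := IsLocalRing.residue_surjective a
      rfl
    have h0 := (RingHom.finite_algebraMap (A := IsLocalRing.ResidueField (Y.presheaf.stalk (f x)))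
      (B := IsLocalRing.ResidueField (X.presheaf.stalk x))).2 h
    rw [e] at h0
    exact h0
  infer_instance

variable {Q E : Scheme.{u}} (π : E ⟶ Q) [Etale π] {Z : Type u} [Group Z] (A : ZAct π Z)

include A in
/-- Residue extensions in torsors under torsion free groups are trivial. -/
theorem residue_surjective_of_zAct (hZ : ∀ z : Z, IsOfFinOrder z → z = 1) (x : E) :
    Function.Surjective (π.residueFieldMap x) := by
  letI : Algebra (Q.residueField (π x)) (E.residueField x) := (π.residueFieldMap x).hom.toAlgebra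
  let K : Type u := Q.residueField (π x)
  let L : Type u := E.residueField x
  haveI : Module.Finite K L := finite_residueField π x
  haveI : Algebra.IsSeparable K L := inferInstanceAs (Algebra.IsSeparable (Q.residueField (π.base x)) (E.residueField x))
  let pt : (L →ₐ[K] L) → (Spec (CommRingCat.of L) ⟶ E) := fun φ =>
    Spec.map (CommRingCat.ofHom φ.toRingHom) ≫ E.fromSpecResidueField x
  -- elements fixing the point
  have hstab : ∀ z : Z, (A.act z) x = x → z = 1 := by
    intro z hz
    have hpow : ∀ n : ℕ, (A.act (z ^ n)) x = x := fun n => by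
      induction n with
      | zero => rw [pow_zero, A.act_one]; rfl
      | succ n ih => rw [pow_succ', A.act_mul, Scheme.Hom.comp_apply, ih, hz]
    have hφ : ∀ n : ℕ, ∃ φ : L →ₐ[K] L, pt φ = E.fromSpecResidueField x ≫ A.act (z ^ n) := fun n => by
      have e := hpow n
      let ψ : E.residueField x ⟶ E.residueField x :=
        (E.residueFieldCongr e).inv ≫ (A.act (z ^ n)).residueFieldMap x
      have hψ : π.residueFieldMap x ≫ ψ = π.residueFieldMap x := by
        have h : Spec.map ψ ≫ E.fromSpecResidueField x ≫ π = E.fromSpecResidueField x ≫ π := by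
          simp only [ψ, Spec.map_comp, Category.assoc]
          rw [Scheme.residueFieldCongr_inv, ← Category.assoc (Spec.map (E.residueFieldCongr e.symm).hom),
            Scheme.residueFieldCongr_fromSpecResidueField,
            ← Category.assoc (Spec.map _) (E.fromSpecResidueField _),
            Scheme.Hom.SpecMap_residueFieldMap_fromSpecResidueField, Category.assoc, A.act_pi]
        rw [← π.SpecMap_residueFieldMap_fromSpecResidueField x, ← Category.assoc, ← Spec.map_comp, cancel_mono,
          Spec.map_inj] at h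
        exact h
      refine ⟨{ ψ.hom with commutes' := fun a => ?_ }, ?_⟩
      · exact ConcreteCategory.congr_hom hψ a
      · show Spec.map ψ ≫ E.fromSpecResidueField x = _
        simp only [ψ, Spec.map_comp, Category.assoc]
        rw [Scheme.residueFieldCongr_inv, Scheme.residueFieldCongr_fromSpecResidueField,
          Scheme.Hom.SpecMap_residueFieldMap_fromSpecResidueField]
    choose φ hφ using hφ
    obtain ⟨n, m, hne, hnm⟩ := Finite.exists_ne_map_eq_of_infinite φ
    obtain ⟨w, -, huniq⟩ := A.unique _ (E.fromSpecResidueField x) (E.fromSpecResidueField x ≫ A.act (z ^ n))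
      (by rw [Category.assoc, A.act_pi])
    have h1 := huniq (z ^ n) rfl
    have h2 := huniq (z ^ m) ((hφ m).symm.trans ((congrArg pt hnm.symm).trans (hφ n)))
    refine hZ z (isOfFinOrder_iff_pow_eq_one.2 ?_)
    rcases Nat.lt_or_gt_of_ne hne with hlt | hlt
    · exact ⟨m - n, Nat.sub_pos_of_lt hlt, mul_left_cancel (a := z ^ n) (by
        rw [← pow_add, Nat.add_sub_of_le hlt.le, _root_.mul_one, h1, h2])⟩
    · exact ⟨n - m, Nat.sub_pos_of_lt hlt, mul_left_cancel (a := z ^ m) (by
        rw [← pow_add, Nat.add_sub_of_le hlt.le, _root_.mul_one, h1, h2])⟩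
  -- there is only one embedding
  let Ω := AlgebraicClosure L
  have hsub : Subsingleton (Field.Emb K L) := by
    refine ⟨fun φ₁ φ₂ => ?_⟩
    let q : (L →ₐ[K] Ω) → (Spec (CommRingCat.of Ω) ⟶ E) := fun φ =>
      Spec.map (CommRingCat.ofHom φ.toRingHom) ≫ E.fromSpecResidueField x
    have hq : ∀ φ : L →ₐ[K] Ω, q φ ≫ π =
        Spec.map (CommRingCat.ofHom (algebraMap K Ω)) ≫ Q.fromSpecResidueField (π x) := fun φ => by
      rw [Category.assoc, ← π.SpecMap_residueFieldMap_fromSpecResidueField x, ← Category.assoc, ← Spec.map_comp,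
        ← φ.comp_algebraMap]
      rfl
    obtain ⟨z, hz, -⟩ := A.unique Ω (q φ₁) (q φ₂) ((hq φ₁).trans (hq φ₂).symm)
    have hzx : (A.act z) x = x := by
      have e := congrArg (fun ψ : Spec (CommRingCat.of Ω) ⟶ E => ψ (IsLocalRing.closedPoint Ω)) hz
      simp only [q, Scheme.Hom.comp_apply] at e
      exact (congrArg (A.act z).base (Scheme.fromSpecResidueField_apply _ _)).symm.trans
        (e.trans (Scheme.fromSpecResidueField_apply _ _))
    rw [hstab z hzx, A.act_one, Category.comp_id] at hz
    simp only [q, cancel_mono, Spec.map_inj] at hz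
    exact AlgHom.coe_ringHom_injective (CommRingCat.hom_ext_iff.1 hz)
  have hone : Module.finrank K L = 1 := by
    rw [← Field.finSepDegree_eq_finrank_of_isSeparable, Field.finSepDegree]
    exact Nat.card_eq_one_iff_unique.2 ⟨hsub, inferInstance⟩
  intro a
  obtain ⟨b, hb⟩ := (Algebra.finrank_eq_one_iff_bijective_algebraMap (F := K) (E := L)).1 hone |>.2 a
  exact ⟨b, hb⟩

variable [IsSeparated π] [Surjective π] [IrreducibleSpace Q]

include A in
/-- A torsor under a torsion free group over an irreducible scheme is trivial if every point has a greatest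
generisation. -/
theorem exists_section_of_gen (hZ : ∀ z : Z, IsOfFinOrder z → z = 1)
    (hE : ∀ x : E, ∃ θ : E, θ ⤳ x ∧ ∀ y : E, y ⤳ x → θ ⤳ y) : ∃ g : Q ⟶ E, g ≫ π = 𝟙 Q := by
  haveI : LocallyQuasiFinite π := WeightLib.locallyQuasiFinite_of_etale π
  let η := genericPoint Q
  obtain ⟨ξ, hξ⟩ := π.surjective η
  have hdisc : ∀ a b : E, a ⤳ b → π b = η → a = b := fun a b h hb =>
    (π.isDiscrete_preimage_singleton η).eq_of_specializes h
      (show a ∈ π ⁻¹' {η} from ((h.map π.continuous).trans (specializes_of_eq hb)).antisymm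
        (genericPoint_specializes _) |>.eq) hb
  -- every point has exactly one generisation over the generic point
  have hgen : ∀ x : E, ∃ θ, θ ⤳ x ∧ π θ = η ∧ ∀ θ', θ' ⤳ x → π θ' = η → θ' = θ := fun x => by
    obtain ⟨Θ, hΘ, hmax⟩ := hE x
    obtain ⟨θ, hθ, hθη⟩ := UnramGULib.exists_generization_of_flat π x (genericPoint_specializes (π x))
    have e := hdisc Θ θ (hmax θ hθ) hθη
    exact ⟨θ, hθ, hθη, fun θ' h' h'η => (hdisc Θ θ' (hmax θ' h') h'η).symm.trans e⟩
  have hopen : IsOpen {x : E | ξ ⤳ x} := by
    rw [isOpen_iff_forall_mem_open]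
    intro x hx
    obtain ⟨W, hW, hxW, -⟩ := exists_isAffineOpen_mem_and_subset (X := Q) (x := π x) (U := ⊤) trivial
    obtain ⟨V, hV, hxV, hVW⟩ := exists_isAffineOpen_mem_and_subset (x := x) (U := π ⁻¹ᵁ W) hxW
    have hfin : {z : E | z ∈ V ∧ π z = η ∧ z ≠ ξ}.Finite :=
      (UnramGULib.finite_fibre_affine π W hW V hV hVW η).subset fun z hz => ⟨hz.1, hz.2.1⟩
    refine ⟨(V : Set E) \ ⋃ z ∈ {z : E | z ∈ V ∧ π z = η ∧ z ≠ ξ}, closure {z}, fun w hw => ?_,
      V.2.sdiff (hfin.isClosed_biUnion fun z _ => isClosed_closure), hxV, fun hmem => ?_⟩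
    · obtain ⟨θ, hθ, hθη, -⟩ := hgen w
      by_cases h : θ = ξ
      · exact h ▸ hθ
      · exact absurd (Set.mem_biUnion (x := θ) (show θ ∈ {z : E | z ∈ V ∧ π z = η ∧ z ≠ ξ} from
          ⟨hθ.mem_open V.2 hw.1, hθη, h⟩) (specializes_iff_mem_closure.1 hθ)) hw.2
    · obtain ⟨z, ⟨-, hzη, hne⟩, hzx⟩ := Set.mem_iUnion₂.1 hmem
      obtain ⟨θ, -, -, huniq⟩ := hgen x
      exact hne ((huniq z (specializes_iff_mem_closure.2 hzx) hzη).trans (huniq ξ hx hξ).symm)
  let U : E.Opens := ⟨_, hopen⟩
  have hres : ∀ x : E, Function.Surjective (π.residueFieldMap x) := residue_surjective_of_zAct π A hZ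
  have hUcl : IsClosed (U : Set E) := by
    have : (U : Set E) = closure {ξ} := Set.ext fun x => specializes_iff_mem_closure
    rw [this]
    exact isClosed_closure
  -- two points of `U` over the same point are equal
  have hinj : Set.InjOn π.base (U : Set E) := by
    intro a ha b hb hab
    obtain ⟨z, h1, h2⟩ := Scheme.Pullback.exists_preimage_pullback a b hab
    obtain ⟨θ, hθ, hθη⟩ := UnramGULib.exists_generization_of_flat (pullback.fst π π ≫ π) z
      (genericPoint_specializes ((pullback.fst π π ≫ π) z))
    have hθ1 : pullback.fst π π θ = ξ := by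
      obtain ⟨θ₀, -, -, huniq⟩ := hgen a
      have hm := hθ.map (pullback.fst π π).continuous
      rw [h1] at hm
      exact (huniq _ hm hθη).trans (huniq ξ ha hξ).symm
    have hθ2 : pullback.snd π π θ = ξ := by
      obtain ⟨θ₀, -, -, huniq⟩ := hgen b
      have hm := hθ.map (pullback.snd π π).continuous
      rw [h2] at hm
      have hη' : π (pullback.snd π π θ) = η := by
        rw [← Scheme.Hom.comp_apply, ← pullback.condition]; exact hθη
      exact (huniq _ hm hη').trans (huniq ξ hb hξ).symm
    let φ := (pullback π π).fromSpecResidueField θ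
    have hφ : φ ≫ pullback.fst π π = φ ≫ pullback.snd π π := by
      refine eq_of_residue π _ _ (by rw [Category.assoc, Category.assoc, pullback.condition]) ?_ (hres _)
      rw [Scheme.Hom.comp_apply, Scheme.Hom.comp_apply]
      exact (congrArg (pullback.fst π π).base (Scheme.fromSpecResidueField_apply _ _)).trans
        ((hθ1.trans hθ2.symm).trans (congrArg (pullback.snd π π).base (Scheme.fromSpecResidueField_apply _ _)).symm)
    have hφ2 : φ = (φ ≫ pullback.fst π π) ≫ pullback.diagonal π := by
      apply pullback.hom_ext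
      · rw [Category.assoc, pullback.diagonal_fst, Category.comp_id]
      · rw [Category.assoc, pullback.diagonal_snd, Category.comp_id, hφ]
    have hd : θ ∈ Set.range (pullback.diagonal π).base := ⟨(φ ≫ pullback.fst π π) (IsLocalRing.closedPoint _), by
      rw [← Scheme.Hom.comp_apply, ← hφ2, Scheme.fromSpecResidueField_apply]⟩
    obtain ⟨d, rfl⟩ := hθ.mem_closed (pullback.diagonal π).isClosedEmbedding.isClosed_range hd
    rw [← Scheme.Hom.comp_apply, pullback.diagonal_fst] at h1
    rw [← Scheme.Hom.comp_apply, pullback.diagonal_snd] at h2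
    exact h1.symm.trans h2
  obtain ⟨g, hg, -⟩ := exists_section_of_opens π U hinj (fun y _ => by
    obtain ⟨x, rfl⟩ := π.surjective y
    obtain ⟨θ, hθ, hθη, -⟩ := hgen x
    -- a translate of `θ` is `ξ`
    let r := π.residueFieldMap θ
    haveI : IsIso r := (ConcreteCategory.isIso_iff_bijective _).2 ⟨r.hom.injective, hres θ⟩
    obtain ⟨h₀, hh⟩ : ∃ h₀ : Spec (E.residueField ξ) ⟶ Spec (Q.residueField (π θ)),
        h₀ ≫ Q.fromSpecResidueField (π θ) = E.fromSpecResidueField ξ ≫ π := by
      rw [hθη, ← hξ]
      exact ⟨_, π.SpecMap_residueFieldMap_fromSpecResidueField ξ⟩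
    let q : Spec (E.residueField ξ) ⟶ E := h₀ ≫ Spec.map (inv r) ≫ E.fromSpecResidueField θ
    have hq : q ≫ π = E.fromSpecResidueField ξ ≫ π := by
      simp only [q, Category.assoc]
      rw [← π.SpecMap_residueFieldMap_fromSpecResidueField θ, ← Spec.map_comp_assoc, IsIso.hom_inv_id,
        Spec.map_id, Category.id_comp, hh]
    obtain ⟨z, hz, -⟩ := A.unique _ q (E.fromSpecResidueField ξ) hq
    have hzθ : (A.act z) θ = ξ := by
      have e := congrArg (fun ψ : Spec (E.residueField ξ) ⟶ E =>
        ψ (IsLocalRing.closedPoint (E.residueField ξ))) hz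
      simp only [q, Category.assoc, Scheme.Hom.comp_apply] at e
      exact (congrArg (A.act z).base (Scheme.fromSpecResidueField_apply _ _)).symm.trans
        (e.trans (Scheme.fromSpecResidueField_apply _ _))
    refine ⟨(A.act z) x, ?_, ?_⟩
    · show ξ ⤳ _
      rw [← hzθ]
      exact hθ.map (A.act z).continuous
    · rw [← Scheme.Hom.comp_apply, A.act_pi]) fun x _ => hres x
  exact ⟨g, hg⟩

include A in
/-- A torsor under a torsion free group over an irreducible scheme is trivial if its local rings are domains. -/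
theorem exists_section_of_isDomain (hZ : ∀ z : Z, IsOfFinOrder z → z = 1)
    (hE : ∀ x : E, IsDomain (E.presheaf.stalk x)) : ∃ g : Q ⟶ E, g ≫ π = 𝟙 Q :=
  exists_section_of_gen π A hZ (exists_greatest_generization hE)

end ConstTorsLib
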