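import Groth.Agent.ConstTorsLib.Key

/-!
# The sheets through a section form an open subscheme
-/

set_option autoImplicit false
set_option backward.isDefEq.respectTransparency false
universe u

open CategoryTheory CategoryTheory.Limits AlgebraicGeometry TopologicalSpace Topology

namespace ConstTorsLib

variable {S P E : Scheme.{u}} (p : P ⟶ S) (π : E ⟶ P)

/-- Points of the base over which two different points of `W` and `W'` have the same image. -/
def dset (W W' : E.Opens) : Set S :=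
  (pullback.fst π π ≫ π ≫ p).base '' (((pullback.fst π π).base ⁻¹' W ∩ (pullback.snd π π).base ⁻¹' W') \
    Set.range (pullback.diagonal π).base)

theorem dset_mono {W W₁ W' W'₁ : E.Opens} (h : W ≤ W₁) (h' : W' ≤ W'₁) : dset p π W W' ⊆ dset p π W₁ W'₁ :=
  Set.image_mono (Set.sdiff_subset_sdiff_left
    (Set.inter_subset_inter (Set.preimage_mono h) (Set.preimage_mono h')))

theorem dset_subset {A : S.Opens} {W W' : E.Opens} (h : W ≤ (π ≫ p) ⁻¹ᵁ A) : dset p π W W' ⊆ A := by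
  rintro _ ⟨m, ⟨⟨hm, -⟩, -⟩, rfl⟩
  exact h hm

variable [Smooth p] [GeometricallyConnected p] [Etale π] [IsSeparated π]

theorem isOpen_dset (W W' : E.Opens) : IsOpen (dset p π W W') :=
  (pullback.fst π π ≫ π ≫ p).isOpenMap _
    ((((pullback.fst π π) ⁻¹ᵁ W).2.inter ((pullback.snd π π) ⁻¹ᵁ W').2).sdiff
      (pullback.diagonal π).isClosedEmbedding.isClosed_range)

theorem mem_dset (hs : HasSheets p π) {W W' : E.Opens} {t : S} :
    t ∈ dset p π W W' ↔ ∃ w ∈ W, ∃ w' ∈ W', w ≠ w' ∧ π w = π w' ∧ p (π w) = t := by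
  constructor
  · rintro ⟨z, ⟨⟨hz, hz'⟩, hd⟩, rfl⟩
    refine ⟨_, hz, _, hz', fun e => hd ?_, ?_, by simp⟩
    · let φ := (pullback π π).fromSpecResidueField z
      have hφ : φ ≫ pullback.fst π π = φ ≫ pullback.snd π π := by
        refine eq_of_residue π _ _ (by rw [Category.assoc, Category.assoc, pullback.condition]) ?_
          (residue_surjective p π hs _)
        rw [Scheme.Hom.comp_apply, Scheme.Hom.comp_apply]
        exact (congrArg (pullback.fst π π).base (Scheme.fromSpecResidueField_apply _ _)).trans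
          (e.trans (congrArg (pullback.snd π π).base (Scheme.fromSpecResidueField_apply _ _)).symm)
      have hφ2 : φ = (φ ≫ pullback.fst π π) ≫ pullback.diagonal π := by
        apply pullback.hom_ext
        · rw [Category.assoc, pullback.diagonal_fst, Category.comp_id]
        · rw [Category.assoc, pullback.diagonal_snd, Category.comp_id, hφ]
      exact ⟨(φ ≫ pullback.fst π π) (IsLocalRing.closedPoint _), by
        rw [← Scheme.Hom.comp_apply, ← hφ2, Scheme.fromSpecResidueField_apply]⟩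
    · rw [← Scheme.Hom.comp_apply, ← Scheme.Hom.comp_apply, pullback.condition]
  · rintro ⟨w, hw, w', hw', hne, he, rfl⟩
    obtain ⟨z, h1, h2⟩ := Scheme.Pullback.exists_preimage_pullback w w' he
    refine ⟨z, ⟨⟨by rw [Set.mem_preimage, h1]; exact hw, by rw [Set.mem_preimage, h2]; exact hw'⟩, ?_⟩, by
      rw [← h1]; simp⟩
    rintro ⟨d, rfl⟩
    rw [← Scheme.Hom.comp_apply, pullback.diagonal_fst] at h1
    rw [← Scheme.Hom.comp_apply, pullback.diagonal_snd] at h2
    exact hne (h1.symm.trans h2)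

theorem isCompact_dset [QuasiSeparated p] {A : S.Opens} (hA : IsAffineOpen A) {W W' : E.Opens}
    (hW : IsAffineOpen W) (hW' : IsAffineOpen W') (hWA : W ≤ (π ≫ p) ⁻¹ᵁ A) (hW'A : W' ≤ (π ≫ p) ⁻¹ᵁ A) :
    IsCompact (dset p π W W') := by
  haveI : IsAffine A.toScheme := hA
  haveI : IsAffine W.toScheme := hW
  haveI : IsAffine W'.toScheme := hW'
  let PA : P.Opens := p ⁻¹ᵁ A
  haveI : QuasiSeparatedSpace PA.toScheme := quasiSeparatedSpace_of_quasiSeparated (p ∣_ A)
  let a : W.toScheme ⟶ PA.toScheme := π.resLE PA W hWA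
  let b : W'.toScheme ⟶ PA.toScheme := π.resLE PA W' hW'A
  haveI : QuasiCompact b := quasiCompact_of_compactSpace b
  let k : pullback a b ⟶ pullback π π := pullback.map a b π π W.ι W'.ι PA.ι
    (Scheme.Hom.resLE_comp_ι π _) (Scheme.Hom.resLE_comp_ι π _)
  have hk : IsCompact ((pullback.fst π π).base ⁻¹' W ∩ (pullback.snd π π).base ⁻¹' W') := by
    have h : IsCompact (Set.range k.base) := isCompact_range k.continuous
    rw [Scheme.Pullback.range_map, Scheme.Opens.range_ι, Scheme.Opens.range_ι] at h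
    exact h
  exact (hk.diff (pullback.diagonal π).opensRange.2).image (pullback.fst π π ≫ π ≫ p).continuous

variable (hs : HasSheets p π) (e : S ⟶ E) (he : e ≫ π ≫ p = 𝟙 S)

include he in
/-- The compactness argument. -/
theorem exists_good_nhd [QuasiSeparated p] {A : S.Opens} (hA : IsAffineOpen A) (x : E) (hxA : p (π x) ∈ A)
    (hx : Good p π hs e x) (D : E.Opens → Set S) (hmono : ∀ W W', W ≤ W' → D W ⊆ D W')
    (hDo : ∀ W, IsOpen (D W))
    (hD : ∀ W : E.Opens, IsAffineOpen W → W ≤ (π ≫ p) ⁻¹ᵁ A → x ∈ W → IsCompact (D W) ∧ D W ⊆ A ∧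
      ∃ B : S.Opens, p (π x) ∈ B ∧ ∀ t ∈ B, (t ∈ D W ↔ ∃ w ∈ W, p (π w) = t ∧ ¬Good p π hs e w)) :
    ∃ W : E.Opens, x ∈ W ∧ ∀ w ∈ W, Good p π hs e w := by
  by_contra hcon
  push Not at hcon
  let I := {W : E.Opens // IsAffineOpen W ∧ W ≤ (π ≫ p) ⁻¹ᵁ A ∧ x ∈ W}
  let J := {B : S.Opens // IsAffineOpen B ∧ B ≤ A ∧ p (π x) ∈ B}
  have hbadd : ∀ (i : I) (j : J), (D i.1 ∩ j.1).Nonempty := by
    rintro ⟨W, hW, hWA, hxW⟩ ⟨B, hB, hBA, hxB⟩
    obtain ⟨-, -, B₀, hxB₀, hB₀⟩ := hD W hW hWA hxW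
    obtain ⟨w, ⟨hwW, hwB⟩, hwbad⟩ := hcon (W ⊓ (π ≫ p) ⁻¹ᵁ (B ⊓ B₀)) ⟨hxW, hxB, hxB₀⟩
    exact ⟨p (π w), (hB₀ _ hwB.2).2 ⟨w, hwW, rfl, hwbad⟩, hwB.1⟩
  haveI : IsAffine A.toScheme := hA
  obtain ⟨W₀, hW₀, hxW₀, hW₀A⟩ := exists_isAffineOpen_mem_and_subset (x := x) (U := (π ≫ p) ⁻¹ᵁ A) hxA
  haveI : Nonempty (I × J) := ⟨⟨W₀, hW₀, hW₀A, hxW₀⟩, ⟨A, hA, le_rfl, hxA⟩⟩
  obtain ⟨t', ht'⟩ := exists_common (fun ij : I × J => A.ι.base ⁻¹' (D ij.1.1 ∩ ij.2.1))
    (fun ij => ((hDo _).inter ij.2.1.2).preimage A.ι.continuous)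
    (fun ij => by
      obtain ⟨hc, hsub, -⟩ := hD ij.1.1 ij.1.2.1 ij.1.2.2.1 ij.1.2.2.2
      rw [Set.preimage_inter]
      refine QuasiSeparatedSpace.inter_isCompact _ _ ((hDo _).preimage A.ι.continuous) ?_
        ((ij.2.1).2.preimage A.ι.continuous) ?_
      · rw [A.ι.isEmbedding.isCompact_iff, Set.image_preimage_eq_inter_range, Scheme.Opens.range_ι,
          Set.inter_eq_left.2 hsub]
        exact hc
      · rw [A.ι.isEmbedding.isCompact_iff, Set.image_preimage_eq_inter_range, Scheme.Opens.range_ι,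
          Set.inter_eq_left.2 ij.2.2.2.1]
        exact ij.2.2.1.isCompact)
    (fun ij => by
      obtain ⟨t, ht, htB⟩ := hbadd ij.1 ij.2
      exact ⟨⟨t, ij.2.2.2.1 htB⟩, ht, htB⟩)
    (fun ij kl => by
      obtain ⟨W, hW, hxW, hWle⟩ := exists_isAffineOpen_mem_and_subset (x := x) (U := ij.1.1 ⊓ kl.1.1)
        ⟨ij.1.2.2.2, kl.1.2.2.2⟩
      obtain ⟨B, hB, hxB, hBle⟩ := exists_isAffineOpen_mem_and_subset (x := p (π x)) (U := ij.2.1 ⊓ kl.2.1)
        ⟨ij.2.2.2.2, kl.2.2.2.2⟩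
      exact ⟨⟨⟨W, hW, fun z hz => ij.1.2.2.1 (hWle hz).1, hxW⟩, ⟨B, hB, fun z hz => ij.2.2.2.1 (hBle hz).1, hxB⟩⟩,
        Set.preimage_mono (Set.inter_subset_inter (hmono _ _ fun z hz => (hWle hz).1) fun z hz => (hBle hz).1),
        Set.preimage_mono (Set.inter_subset_inter (hmono _ _ fun z hz => (hWle hz).2) fun z hz => (hBle hz).2)⟩)
  let t : S := A.ι t'
  -- every neighbourhood contains a bad point over `t`
  have hbad : ∀ W : E.Opens, IsAffineOpen W → W ≤ (π ≫ p) ⁻¹ᵁ A → x ∈ W →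
      ∃ w ∈ W, p (π w) = t ∧ ¬Good p π hs e w := by
    intro W hW hWA hxW
    obtain ⟨-, -, B₀, hxB₀, hB₀⟩ := hD W hW hWA hxW
    obtain ⟨B, hB, hxB, hBle⟩ := exists_isAffineOpen_mem_and_subset (x := p (π x)) (U := B₀ ⊓ A) ⟨hxB₀, hxA⟩
    have h := ht' (⟨W, hW, hWA, hxW⟩, ⟨B, hB, fun z hz => (hBle hz).2, hxB⟩)
    exact (hB₀ t (hBle h.2).1).1 h.1
  have hfin := finite_gen p π hs hA hW₀ hW₀A t
  let Ξ := {g ∈ gen p π hs '' {w : E | w ∈ W₀ ∧ p (π w) = t} | ¬Good p π hs e g}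
  have hΞ : IsClosed (⋃ g ∈ Ξ, closure {g}) := (hfin.sep _).isClosed_biUnion fun g _ => isClosed_closure
  let V : E.Opens := ⟨(W₀ : Set E) \ ⋃ g ∈ Ξ, closure {g}, W₀.2.sdiff hΞ⟩
  have hxV : x ∈ V := by
    refine ⟨hxW₀, fun h => ?_⟩
    obtain ⟨g, ⟨-, hg⟩, hgx⟩ := Set.mem_iUnion₂.1 h
    exact hg (good_of_specializes p π hs e he (specializes_iff_mem_closure.2 hgx) hx)
  obtain ⟨W, hW, hxW, hWV⟩ := exists_isAffineOpen_mem_and_subset hxV
  obtain ⟨w, hw, hwt, hwbad⟩ := hbad W hW (fun z hz => hW₀A (hWV hz).1) hxW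
  refine (hWV hw).2 (Set.mem_biUnion (x := gen p π hs w)
    ⟨⟨w, ⟨(hWV hw).1, hwt⟩, rfl⟩, fun h => hwbad ((good_gen_iff p π hs e w).1 h)⟩
    (specializes_iff_mem_closure.1 (gen_spec p π hs w).1))

include he in
theorem isOpen_good [QuasiSeparated p] : IsOpen {x : E | Good p π hs e x} := by
  rw [isOpen_iff_forall_mem_open]
  intro x hx
  let s := p (π x)
  obtain ⟨A, hA, hsA, -⟩ := exists_isAffineOpen_mem_and_subset (x := s) (U := ⊤) trivial
  have hse : ∀ t, Good p π hs e (e t) := fun t => by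
    rw [Good, apply_section p π e he]
  have hesA : p (π (e s)) ∈ A := by rw [apply_section p π e he]; exact hsA
  have sep : ∀ w w' : E, π w = π w' → w ≠ w' → Good p π hs e w → ¬Good p π hs e w' := by
    intro w w' h hne hw hw'
    refine hne (eq_of_pi_of_gen p π hs h ?_)
    rw [show gen p π hs w = _ from hw, show gen p π hs w' = _ from hw', h]
  -- a good neighbourhood of the section
  have meet : ∀ (Wa W : E.Opens) (t : S), e t ∈ Wa → (∃ w ∈ W, p (π w) = t ∧ ¬Good p π hs e w) →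
      t ∈ dset p π Wa W := by
    rintro Wa W t hta ⟨w, hw, hwt, hbad⟩
    obtain ⟨a, ha, b, hb, hab, hat, hga, hgb⟩ := exists_meet p π hs
      ((apply_section p π e he t).trans hwt.symm) Wa W hta hw
    refine (mem_dset p π hs).2 ⟨a, ha, b, hb, fun h => ?_, hab, hat.trans (apply_section p π e he t)⟩
    subst h
    apply hbad
    rw [Good, hwt]
    exact hgb.symm.trans hga
  obtain ⟨Wa₀, hesW₀, hWa₀⟩ := exists_good_nhd p π hs e he hA (e s) hesA (hse s) (fun W => dset p π W W)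
    (fun _ _ h => dset_mono p π h h) (fun W => isOpen_dset p π W W) (fun W hW hWA hxW => by
      refine ⟨isCompact_dset p π hA hW hW hWA hWA, dset_subset p π hWA, e ⁻¹ᵁ W,
        by rw [apply_section p π e he]; exact hxW, fun t ht => ⟨fun h => ?_, meet W W t ht⟩⟩
      obtain ⟨w, hw, w', hw', hne, hπ, hwt⟩ := (mem_dset p π hs).1 h
      by_cases hg : Good p π hs e w
      · exact ⟨w', hw', by rw [← hπ]; exact hwt, sep w w' hπ hne hg⟩
      · exact ⟨w, hw, hwt, hg⟩)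
  obtain ⟨Wa, hWa, hesW, hWale⟩ := exists_isAffineOpen_mem_and_subset (x := e s)
    (U := Wa₀ ⊓ (π ≫ p) ⁻¹ᵁ A) ⟨hesW₀, hesA⟩
  obtain ⟨W, hxW, hW⟩ := exists_good_nhd p π hs e he hA x hsA hx (fun W => dset p π Wa W)
    (fun _ _ h => dset_mono p π le_rfl h) (fun W => isOpen_dset p π Wa W) (fun W hW hWA hxW => by
      refine ⟨isCompact_dset p π hA hWa hW (fun z hz => (hWale hz).2) hWA,
        dset_subset p π fun z hz => (hWale hz).2, e ⁻¹ᵁ Wa, hesW, fun t ht => ⟨fun h => ?_, meet Wa W t ht⟩⟩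
      obtain ⟨w, hw, w', hw', hne, hπ, hwt⟩ := (mem_dset p π hs).1 h
      exact ⟨w', hw', by rw [← hπ]; exact hwt, sep w w' hπ hne (hWa₀ w (hWale hw).1)⟩)
  exact ⟨W, fun w hw => hW w hw, W.2, hxW⟩

include hs he in
/-- A section over the base extends to a section of a morphism with sheets. -/
theorem exists_section [QuasiSeparated p] : ∃ g : P ⟶ E, g ≫ π = 𝟙 P ∧ (e ≫ π) ≫ g = e := by
  let U : E.Opens := ⟨{x : E | Good p π hs e x}, isOpen_good p π hs e he⟩
  obtain ⟨g, hg, hmax⟩ := exists_section_of_opens π U (fun a ha b hb h => by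
      refine eq_of_pi_of_gen p π hs h ?_
      have ha' : gen p π hs a = _ := ha
      have hb' : gen p π hs b = _ := hb
      rw [ha', hb', h])
    (fun y _ => by
      obtain ⟨σ, hσ, hes⟩ : ∃ σ : pullback p (S.fromSpecResidueField (p y)) ⟶ E,
          σ ≫ π = pullback.fst p _ ∧ e (p y) ∈ Set.range σ.base := by
        have key : ∀ (z : E) (t : S), p (π z) = t → ∃ σ : pullback p (S.fromSpecResidueField t) ⟶ E,
            σ ≫ π = pullback.fst p _ ∧ z ∈ Set.range σ.base := by rintro z t rfl; exact hs z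
        exact key _ _ (apply_section p π e he _)
      obtain ⟨a, ha⟩ : y ∈ Set.range (pullback.fst p (S.fromSpecResidueField (p y))).base := by
        rw [Scheme.Pullback.range_fst, Scheme.range_fromSpecResidueField]; rfl
      have r := (range_sigma p π hs σ hσ hes).le ⟨a, rfl⟩
      refine ⟨σ a, ?_, (pi_apply p π σ hσ a).trans ha⟩
      show Good p π hs e (σ a)
      rw [Good, r.1]
      exact r.2)
    (fun x _ => residue_surjective p π hs x)
  refine ⟨g, hg, hmax S e ?_⟩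
  rintro _ ⟨t, rfl⟩
  show Good p π hs e (e t)
  rw [Good, apply_section p π e he]

end ConstTorsLib
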