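import Groth.Agent.ConstTorsLib.Topo
import Groth.Agent.WeilResLib.Fibre
import Groth.Agent.Unram17Lib.SmoothNormal
import Groth.Agent.AlgSpRegLib.ImagePoints

/-!
# Sheets of etale separated morphisms trivial on the fibres

`π : E ⟶ P` is etale and separated, `p : P ⟶ S` is smooth with geometrically connected fibres and on every fibre
of `p` the morphism `π` is a union of sheets. The sheets through a section form an open subscheme.
-/

set_option autoImplicit false
set_option backward.isDefEq.respectTransparency false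
universe u

open CategoryTheory CategoryTheory.Limits AlgebraicGeometry TopologicalSpace Topology

namespace ConstTorsLib

variable {S P E : Scheme.{u}} (p : P ⟶ S) (π : E ⟶ P)

/-- Every point lies on a sheet over its fibre. -/
def HasSheets : Prop :=
  ∀ x : E, ∃ σ : pullback p (S.fromSpecResidueField (p (π x))) ⟶ E,
    σ ≫ π = pullback.fst p _ ∧ x ∈ Set.range σ.base

/-- `g` is the greatest generisation of `x` in its fibre. -/
def IsGen (x g : E) : Prop :=
  g ⤳ x ∧ p (π g) = p (π x) ∧ ∀ θ : E, p (π θ) = p (π x) → θ ⤳ x → g ⤳ θ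

theorem surjective_residueFieldMap_of_preimmersion {X Y : Scheme.{u}} (f : X ⟶ Y) [IsPreimmersion f] (x : X) :
    Function.Surjective (f.residueFieldMap x) := by
  intro a
  obtain ⟨b, rfl⟩ := X.residue_surjective x a
  obtain ⟨c, rfl⟩ := f.stalkMap_surjective x b
  exact ⟨Y.residue (f x) c, by
    rw [← CategoryTheory.comp_apply, Scheme.residue_residueFieldMap]; rfl⟩

variable [Smooth p] [GeometricallyConnected p] [Etale π] [IsSeparated π]

theorem irreducibleSpace_pullback {K : Type u} [Field K] (i : Spec (CommRingCat.of K) ⟶ S) :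
    IrreducibleSpace ↥(pullback p i) := by
  haveI : Smooth (pullback.snd p i) := MorphismProperty.pullback_snd _ _ inferInstance
  exact Groth.Agent.WeilRes.irreducibleSpace_of_smooth_of_field (pullback.snd p i)

section Sigma

variable {t : S} (σ : pullback p (S.fromSpecResidueField t) ⟶ E) (hσ : σ ≫ π = pullback.fst p _)

include hσ in
omit [Smooth p] [GeometricallyConnected p] [Etale π] [IsSeparated π] in
theorem pi_apply (a : (pullback p (S.fromSpecResidueField t) : Scheme.{u})) :
    π (σ a) = pullback.fst p (S.fromSpecResidueField t) a := by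
  rw [← Scheme.Hom.comp_apply, hσ]

include hσ in
omit [Smooth p] [GeometricallyConnected p] [Etale π] [IsSeparated π] in
theorem mem_fibre (a : (pullback p (S.fromSpecResidueField t) : Scheme.{u})) : p (π (σ a)) = t := by
  rw [pi_apply p π σ hσ, ← Scheme.Hom.comp_apply, pullback.condition, Scheme.Hom.comp_apply,
    Scheme.fromSpecResidueField_apply]

include hσ in
omit [Smooth p] [GeometricallyConnected p] [Etale π] [IsSeparated π] in
theorem pi_inj {a b : (pullback p (S.fromSpecResidueField t) : Scheme.{u})} (h : π (σ a) = π (σ b)) : a = b := by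
  rw [pi_apply p π σ hσ, pi_apply p π σ hσ] at h
  exact (pullback.fst p (S.fromSpecResidueField t)).isEmbedding.injective h

include hσ in
omit [Smooth p] [GeometricallyConnected p] in
theorem range_eq_inter : ∃ O C : Set E, IsOpen O ∧ IsClosed C ∧
    Set.range σ.base = O ∩ {x : E | p (π x) = t} ∧ Set.range σ.base = C ∩ {x : E | p (π x) = t} := by
  let ι := S.fromSpecResidueField t
  let j := pullback.fst π (pullback.fst p ι)
  let s := pullback.lift σ (𝟙 _) (by rw [Category.id_comp, hσ]) (f := π) (g := pullback.fst p ι)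
  have hs : s ≫ pullback.snd π (pullback.fst p ι) = 𝟙 _ := pullback.lift_snd _ _ _
  have hj : s ≫ j = σ := pullback.lift_fst _ _ _
  haveI : IsClosedImmersion (s ≫ pullback.snd π (pullback.fst p ι)) := by rw [hs]; infer_instance
  haveI : IsClosedImmersion s := IsClosedImmersion.of_comp s (pullback.snd π (pullback.fst p ι))
  haveI : Etale (s ≫ pullback.snd π (pullback.fst p ι)) := by rw [hs]; infer_instance
  haveI : Etale s := Etale.of_comp s (pullback.snd π (pullback.fst p ι))
  haveI : Mono s := mono_of_mono_fac hs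
  haveI : IsOpenImmersion s := IsOpenImmersion.of_flat_of_mono s
  have hr : Set.range j.base = {x : E | p (π x) = t} := by
    rw [Scheme.Pullback.range_fst, Scheme.Pullback.range_fst, Scheme.range_fromSpecResidueField]
    rfl
  have hσr : Set.range σ.base = j.base '' Set.range s.base := by
    rw [← hj, Scheme.Hom.comp_base, TopCat.coe_comp, Set.range_comp]
  obtain ⟨O, hO, hO'⟩ := j.isEmbedding.isInducing.isOpen_iff.1 s.opensRange.2
  obtain ⟨C, hC, hC'⟩ := j.isEmbedding.isInducing.isClosed_iff.1 s.isClosedEmbedding.isClosed_range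
  refine ⟨O, C, hO, hC, ?_, ?_⟩
  · rw [hσr, show Set.range s.base = j.base ⁻¹' O from hO'.symm, Set.image_preimage_eq_inter_range, hr]
  · rw [hσr, show Set.range s.base = j.base ⁻¹' C from hC'.symm, Set.image_preimage_eq_inter_range, hr]

include hσ in
omit [Smooth p] [GeometricallyConnected p] in
theorem mem_range_iff {y θ : E} (hy : p (π y) = t) (hθ : p (π θ) = t) (h : θ ⤳ y) :
    θ ∈ Set.range σ.base ↔ y ∈ Set.range σ.base := by
  obtain ⟨O, C, hO, hC, h1, h2⟩ := range_eq_inter p π σ hσ
  constructor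
  · intro hm
    rw [h2] at hm ⊢
    exact ⟨h.mem_closed hC hm.1, hy⟩
  · intro hm
    rw [h1] at hm ⊢
    exact ⟨h.mem_open hO hm.1, hθ⟩

end Sigma

theorem exists_isGen (hs : HasSheets p π) (x : E) : ∃ g, IsGen p π x g := by
  obtain ⟨σ, hσ, a, ha⟩ := hs x
  haveI := irreducibleSpace_pullback p (S.fromSpecResidueField (p (π x)))
  refine ⟨σ (genericPoint _), ?_, mem_fibre p π σ hσ _, fun θ hθ h => ?_⟩
  · have h := (genericPoint_specializes a).map σ.continuous
    rwa [ha] at h
  obtain ⟨b, rfl⟩ := (mem_range_iff p π σ hσ rfl hθ h).2 ⟨a, ha⟩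
  exact (genericPoint_specializes b).map σ.continuous

variable (hs : HasSheets p π)

/-- The generic point of the sheet through a point. -/
noncomputable def gen (x : E) : E := (exists_isGen p π hs x).choose

theorem gen_spec (x : E) : IsGen p π x (gen p π hs x) := (exists_isGen p π hs x).choose_spec

theorem gen_eq_of_specializes {θ x : E} (h : θ ⤳ x) (hq : p (π θ) = p (π x)) :
    gen p π hs θ = gen p π hs x := by
  obtain ⟨h1, h2, h3⟩ := gen_spec p π hs x
  obtain ⟨g1, g2, g3⟩ := gen_spec p π hs θ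
  exact ((g3 _ (h2.trans hq.symm) (h3 θ hq h)).antisymm (h3 _ (g2.trans hq) (g1.trans h))).eq

theorem gen_gen (x : E) : gen p π hs (gen p π hs x) = gen p π hs x :=
  gen_eq_of_specializes p π hs (gen_spec p π hs x).1 (gen_spec p π hs x).2.1

theorem range_sigma {t : S} (σ : pullback p (S.fromSpecResidueField t) ⟶ E) (hσ : σ ≫ π = pullback.fst p _)
    {x : E} (hx : x ∈ Set.range σ.base) :
    Set.range σ.base = {y : E | p (π y) = t ∧ gen p π hs y = gen p π hs x} := by
  haveI := irreducibleSpace_pullback p (S.fromSpecResidueField t)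
  have hxt : p (π x) = t := by obtain ⟨a, rfl⟩ := hx; exact mem_fibre p π σ hσ a
  have key : ∀ y ∈ Set.range σ.base, p (π y) = t ∧ gen p π hs y = σ (genericPoint _) := by
    rintro _ ⟨a, rfl⟩
    obtain ⟨h1, h2, h3⟩ := gen_spec p π hs (σ a)
    have ht := mem_fibre p π σ hσ a
    obtain ⟨b, hb⟩ := (mem_range_iff p π σ hσ ht (h2.trans ht) h1).2 ⟨a, rfl⟩
    refine ⟨ht, (Specializes.antisymm (h3 _ ((mem_fibre p π σ hσ _).trans ht.symm)
      ((genericPoint_specializes a).map σ.continuous)) ?_).eq⟩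
    rw [← hb]
    exact (genericPoint_specializes b).map σ.continuous
  ext y
  refine ⟨fun hy => ⟨(key y hy).1, (key y hy).2.trans (key x hx).2.symm⟩, fun ⟨hy, hg⟩ => ?_⟩
  obtain ⟨h1, h2, -⟩ := gen_spec p π hs y
  refine (mem_range_iff p π σ hσ hy (h2.trans hy) h1).1 ?_
  rw [hg, (key x hx).2]
  exact ⟨_, rfl⟩

theorem eq_of_pi_of_gen {x y : E} (h : π x = π y) (hg : gen p π hs x = gen p π hs y) : x = y := by
  obtain ⟨σ, hσ, hx⟩ := hs x
  have hy : y ∈ Set.range σ.base := by
    rw [range_sigma p π hs σ hσ hx]; exact ⟨by rw [h], hg.symm⟩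
  obtain ⟨a, ha⟩ := hx
  obtain ⟨b, hb⟩ := hy
  have e : π (σ a) = π (σ b) := (congrArg π.base ha).trans (h.trans (congrArg π.base hb.symm))
  exact ha.symm.trans ((congrArg σ.base (pi_inj p π σ hσ e)).trans hb)

include hs in
omit [Smooth p] [GeometricallyConnected p] [Etale π] [IsSeparated π] in
theorem residue_surjective (x : E) : Function.Surjective (π.residueFieldMap x) := by
  obtain ⟨σ, hσ, a, ha⟩ := hs x
  suffices H : Function.Surjective (π.residueFieldMap (σ a)) by
    have e : σ.base a = x := ha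
    exact e ▸ H
  refine surjective_residueFieldMap σ π a ?_
  have : IsPreimmersion (σ ≫ π) := by rw [hσ]; infer_instance
  exact surjective_residueFieldMap_of_preimmersion (σ ≫ π) a

/-- Two sheets of one fibre meet over any two opens meeting them. -/
theorem exists_meet {x x' : E} (h : p (π x) = p (π x')) (W W' : E.Opens) (hx : x ∈ W) (hx' : x' ∈ W') :
    ∃ w ∈ W, ∃ w' ∈ W', π w = π w' ∧ p (π w) = p (π x) ∧ gen p π hs w = gen p π hs x ∧
      gen p π hs w' = gen p π hs x' := by
  generalize ht : p (π x) = t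
  obtain ⟨σ, hσ, hxσ⟩ : ∃ σ : pullback p (S.fromSpecResidueField t) ⟶ E,
      σ ≫ π = pullback.fst p _ ∧ x ∈ Set.range σ.base := by subst ht; exact hs x
  obtain ⟨σ', hσ', hxσ'⟩ : ∃ σ : pullback p (S.fromSpecResidueField t) ⟶ E,
      σ ≫ π = pullback.fst p _ ∧ x' ∈ Set.range σ.base := by
    obtain rfl : p (π x') = t := h.symm.trans ht
    exact hs x'
  haveI := irreducibleSpace_pullback p (S.fromSpecResidueField t)
  obtain ⟨a, -, ha, ha'⟩ := (PreirreducibleSpace.isPreirreducible_univ (X := ↥(pullback p (S.fromSpecResidueField t))))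
    (σ.base ⁻¹' W) (σ'.base ⁻¹' W') (W.2.preimage σ.continuous) (W'.2.preimage σ'.continuous)
    (by obtain ⟨a, rfl⟩ := hxσ; exact ⟨a, trivial, hx⟩) (by obtain ⟨a, rfl⟩ := hxσ'; exact ⟨a, trivial, hx'⟩)
  have r := (range_sigma p π hs σ hσ hxσ).le ⟨a, rfl⟩
  have r' := (range_sigma p π hs σ' hσ' hxσ').le ⟨a, rfl⟩
  exact ⟨σ a, ha, σ' a, ha', by rw [pi_apply p π σ hσ, pi_apply p π σ' hσ'], r.1, r.2, r'.2⟩

/-- Only finitely many sheets of a fibre meet an affine open. -/
theorem finite_gen {A : S.Opens} (hA : IsAffineOpen A) {V : E.Opens} (hV : IsAffineOpen V)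
    (hVA : V ≤ (π ≫ p) ⁻¹ᵁ A) (t : S) :
    (gen p π hs '' {w : E | w ∈ V ∧ p (π w) = t}).Finite := by
  have hc : IsCompact {w : E | w ∈ V ∧ p (π w) = t} := by
    by_cases ht : t ∈ A
    · haveI : IsAffine V.toScheme := hV
      haveI : IsAffine A.toScheme := hA
      have h := (((π ≫ p).resLE A V hVA).isCompact_preimage_singleton ⟨t, ht⟩).image V.ι.continuous
      convert h using 1
      ext w
      constructor
      · rintro ⟨hw, rfl⟩
        refine ⟨⟨w, hw⟩, Subtype.ext ?_, rfl⟩
        rw [← Scheme.Opens.ι_apply, ← Scheme.Hom.comp_apply, Scheme.Hom.resLE_comp_ι]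
        rfl
      · rintro ⟨z, hz, rfl⟩
        refine ⟨z.2, ?_⟩
        have e := congrArg (A.ι ·) (show ((π ≫ p).resLE A V hVA) z = ⟨t, ht⟩ from hz)
        simp only [Scheme.Opens.ι_apply] at e
        rw [← Scheme.Opens.ι_apply, ← Scheme.Hom.comp_apply, Scheme.Hom.resLE_comp_ι] at e
        exact e
    · convert isCompact_empty
      ext w
      simp only [Set.mem_setOf_eq, Set.mem_empty_iff_false, iff_false, not_and]
      rintro hw rfl
      exact ht (hVA hw)
  have hO : ∀ y : E, ∃ O : Set E, IsOpen O ∧ y ∈ O ∧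
      ∀ w ∈ O, p (π w) = p (π y) → gen p π hs w = gen p π hs y := by
    intro y
    obtain ⟨σ, hσ, hy⟩ := hs y
    obtain ⟨O, C, hO, -, h1, -⟩ := range_eq_inter p π σ hσ
    refine ⟨O, hO, (h1 ▸ hy).1, fun w hw hwt => ?_⟩
    have : w ∈ Set.range σ.base := by rw [h1]; exact ⟨hw, hwt⟩
    rw [range_sigma p π hs σ hσ hy] at this
    exact this.2
  choose O hO hyO hOg using hO
  obtain ⟨F, hF⟩ := hc.elim_finite_subcover (fun y : {w : E | w ∈ V ∧ p (π w) = t} => O y.1) (fun y => hO _)
    (fun w hw => Set.mem_iUnion.2 ⟨⟨w, hw⟩, hyO w⟩)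
  refine (F.finite_toSet.image (fun y => gen p π hs y.1)).subset ?_
  rintro _ ⟨w, hw, rfl⟩
  obtain ⟨y, hy, hwy⟩ := Set.mem_iUnion₂.1 (hF hw)
  exact ⟨y, hy, (hOg _ w hwy (hw.2.trans y.2.2.symm)).symm⟩

end ConstTorsLib
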