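import Mathlib
import Groth.Agent.UnramGULib.Global

/-!
# Preliminaries for torsors under constant groups
-/

set_option autoImplicit false
set_option backward.isDefEq.respectTransparency.types false
universe u

open CategoryTheory CategoryTheory.Limits AlgebraicGeometry TopologicalSpace Topology

namespace ConstTorsLib

/-- A downward directed family of nonempty quasi-compact opens of a spectral space has a common point. -/
theorem exists_common {X : Type u} [TopologicalSpace X] [CompactSpace X] [QuasiSober X] [PrespectralSpace X]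
    [QuasiSeparatedSpace X] {ι : Type*} [Nonempty ι] (F : ι → Set X) (ho : ∀ i, IsOpen (F i))
    (hc : ∀ i, IsCompact (F i)) (hne : ∀ i, (F i).Nonempty) (hd : Directed (· ⊇ ·) F) : ∃ t, ∀ i, t ∈ F i := by
  have hcl : ∀ i, IsClosed (WithTopology.toTopology (constructibleTopology X) '' F i) := fun i => by
    rw [WithConstructibleTopology.isClosed_iff, Set.preimage_image_eq _ (WithTopology.toTopology_injective _)]
    refine @IsClosed.mk X (constructibleTopology X) _ ?_
    exact IsCompact.isOpen_constructibleTopology_of_isClosed (by rw [compl_compl]; exact hc i) (ho i).isClosed_compl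
  obtain ⟨z, hz⟩ := IsCompact.nonempty_iInter_of_directed_nonempty_isCompact_isClosed
    (fun i => WithTopology.toTopology (constructibleTopology X) '' F i)
    (fun i j => let ⟨k, h1, h2⟩ := hd i j; ⟨k, Set.image_mono h1, Set.image_mono h2⟩)
    (fun i => (hne i).image _) (fun i => (hcl i).isCompact) hcl
  obtain ⟨t, rfl⟩ := WithTopology.toTopology_surjective _ z
  refine ⟨t, fun i => ?_⟩
  obtain ⟨t', ht', e⟩ := Set.mem_iInter.1 hz i
  exact WithTopology.toTopology_injective _ e ▸ ht'

/-- Two field valued points with the same image and the same composite with a residually trivial morphism agree. -/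
theorem eq_of_residue {X Y : Scheme.{u}} (f : X ⟶ Y) {K : Type u} [Field K] (g h : Spec (CommRingCat.of K) ⟶ X)
    (hgh : g ≫ f = h ≫ f) (hp : g (IsLocalRing.closedPoint K) = h (IsLocalRing.closedPoint K))
    (hres : Function.Surjective (f.residueFieldMap (g (IsLocalRing.closedPoint K)))) : g = h := by
  obtain ⟨e, he⟩ := Scheme.SpecToEquivOfField_eq_iff.mp congr((Y.SpecToEquivOfField K) $(hgh))
  apply (X.SpecToEquivOfField K).injective
  simp [Scheme.SpecToEquivOfField] at e he
  --   simp only [Scheme.descResidueField_stalkClosedPointTo_comp] at e he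
  rw [← f.residueFieldMap_congr'_assoc hp] at he
  rw [Scheme.SpecToEquivOfField_eq_iff]
  haveI : Epi (f.residueFieldMap (g (IsLocalRing.closedPoint K))) := ConcreteCategory.epi_of_surjective _ hres
  exact ⟨hp, (cancel_epi (f.residueFieldMap (g (IsLocalRing.closedPoint K)))).1 he⟩

/-- A morphism of residue fields is surjective if a composite with the next one is. -/
theorem surjective_residueFieldMap {W X Y : Scheme.{u}} (g : W ⟶ X) (f : X ⟶ Y) (w : W)
    (h : Function.Surjective ((g ≫ f).residueFieldMap w)) : Function.Surjective (f.residueFieldMap (g w)) := by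
  intro a
  obtain ⟨b, hb⟩ := h (g.residueFieldMap w a)
  refine ⟨b, (g.residueFieldMap w).hom.injective ?_⟩
  rw [← hb, Scheme.residueFieldMap_comp]
  rfl

/-- An etale morphism which is injective on points with trivial residue extensions is an open immersion. -/
theorem isOpenImmersion_of_injective {X Y : Scheme.{u}} (f : X ⟶ Y) [Etale f] (hi : Function.Injective f.base)
    (hres : ∀ x, Function.Surjective (f.residueFieldMap x)) : IsOpenImmersion f := by
  haveI : UniversallyInjective f := by
    refine ((tfae_universallyInjective f).out 0 1).2 (fun K hK g h hgh => ?_)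
    letI := hK
    refine eq_of_residue f g h hgh (hi ?_) (hres _)
    have := congrArg (fun φ : Spec (CommRingCat.of K) ⟶ Y => φ (IsLocalRing.closedPoint K)) hgh
    simpa using this
  haveI : Surjective (pullback.diagonal f) := (UniversallyInjective.iff_diagonal f).1 inferInstance
  haveI : IsIso (pullback.diagonal f) := (isIso_iff_isOpenImmersion_and_epi_base _).2
    ⟨inferInstance, (TopCat.epi_iff_surjective _).2 Surjective.surj⟩
  haveI : Mono f := (pullback.isIso_diagonal_iff f).1 inferInstance
  exact IsOpenImmersion.of_flat_of_mono f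

/-- The locus where two morphisms to an etale separated scheme agree is open and closed. -/
theorem exists_clopen_eq {X Y T : Scheme.{u}} (f : X ⟶ Y) [Etale f] [IsSeparated f] (a b : T ⟶ X)
    (h : a ≫ f = b ≫ f) : ∃ U : T.Opens, IsClosed (U : Set T) ∧ U.ι ≫ a = U.ι ≫ b ∧
      ∀ (W : Scheme.{u}) (w : W ⟶ T), w ≫ a = w ≫ b → Set.range w.base ⊆ (U : Set T) := by
  let j : T ⟶ pullback f f := pullback.lift a b h
  let i : pullback (pullback.diagonal f) j ⟶ T := pullback.snd _ _
  haveI : IsClosedImmersion i := inferInstanceAs (IsClosedImmersion (pullback.snd _ _))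
  haveI : IsOpenImmersion i := inferInstanceAs (IsOpenImmersion (pullback.snd _ _))
  have hi : i ≫ a = i ≫ b := by
    have e := (pullback.condition (f := pullback.diagonal f) (g := j))
    have e1 := congrArg (· ≫ pullback.fst f f) e
    have e2 := congrArg (· ≫ pullback.snd f f) e
    simp only [j, Category.assoc, pullback.lift_fst, pullback.lift_snd, pullback.diagonal_fst,
      pullback.diagonal_snd] at e1 e2
    exact e1.symm.trans e2
  refine ⟨i.opensRange, i.isClosedEmbedding.isClosed_range, ?_, fun W w hw => ?_⟩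
  · rw [← cancel_epi (i.isoOpensRange).hom, ← Category.assoc, ← Category.assoc, Scheme.Hom.isoOpensRange_hom_ι]
    exact hi
  · have e : (w ≫ a) ≫ pullback.diagonal f = w ≫ j := by
      apply pullback.hom_ext
      · simp only [j, Category.assoc, pullback.diagonal_fst, Category.comp_id, pullback.lift_fst]
      · simp only [j, Category.assoc, pullback.diagonal_snd, Category.comp_id, pullback.lift_snd]; exact hw
    intro t ht
    obtain ⟨z, rfl⟩ := ht
    exact ⟨pullback.lift (w ≫ a) w e z, by rw [← Scheme.Hom.comp_apply, pullback.lift_snd]⟩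

/-- Two morphisms to an etale separated scheme which agree along a section of a morphism with connected fibres
agree. -/
theorem eq_of_section {X Y T S : Scheme.{u}} (f : X ⟶ Y) [Etale f] [IsSeparated f] (a b : T ⟶ X)
    (h : a ≫ f = b ≫ f) (p : T ⟶ S) (hp : ∀ s, _root_.IsPreconnected (p.base ⁻¹' {s})) (e : S ⟶ T) (he : e ≫ p = 𝟙 S)
    (hab : e ≫ a = e ≫ b) : a = b := by
  obtain ⟨U, hUc, hU, hmax⟩ := exists_clopen_eq f a b h
  have huniv : ∀ t : T, t ∈ U := fun t => by
    have hes : p.base (e.base (p.base t)) = p.base t := by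
      rw [← Scheme.Hom.comp_apply, he]; rfl
    exact (hp (p.base t)).subset_isClopen ⟨hUc, U.2⟩ ⟨e.base (p.base t), hes, hmax S e hab ⟨_, rfl⟩⟩ rfl
  haveI : IsIso U.ι := by
    refine (isIso_iff_isOpenImmersion_and_epi_base _).2 ⟨inferInstance, (TopCat.epi_iff_surjective _).2 fun t => ?_⟩
    exact ⟨⟨t, huniv t⟩, rfl⟩
  rwa [← cancel_epi U.ι]

/-- An open subscheme mapping bijectively with trivial residue extensions gives a section. -/
theorem exists_section_of_opens {X Y : Scheme.{u}} (f : X ⟶ Y) [Etale f] (U : X.Opens)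
    (hi : Set.InjOn f.base (U : Set X)) (hs : Set.SurjOn f.base (U : Set X) Set.univ)
    (hres : ∀ x ∈ U, Function.Surjective (f.residueFieldMap x)) :
    ∃ g : Y ⟶ X, g ≫ f = 𝟙 Y ∧ ∀ (W : Scheme.{u}) (w : W ⟶ X), Set.range w.base ⊆ (U : Set X) →
      (w ≫ f) ≫ g = w := by
  haveI : IsOpenImmersion (U.ι ≫ f) := isOpenImmersion_of_injective _ (fun a b hab => Subtype.ext
    (hi a.2 b.2 hab)) fun x => by
    haveI : IsIso (U.ι.residueFieldMap x) := inferInstance
    rw [Scheme.residueFieldMap_comp]
    exact (ConcreteCategory.bijective_of_isIso (U.ι.residueFieldMap x)).2.comp (hres _ x.2)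
  haveI : IsIso (U.ι ≫ f) := by
    refine (isIso_iff_isOpenImmersion_and_epi_base _).2 ⟨inferInstance, (TopCat.epi_iff_surjective _).2 fun y => ?_⟩
    obtain ⟨x, hx, rfl⟩ := hs (Set.mem_univ y)
    exact ⟨⟨x, hx⟩, rfl⟩
  refine ⟨inv (U.ι ≫ f) ≫ U.ι, by rw [Category.assoc, IsIso.inv_hom_id], fun W w hw => ?_⟩
  have hw' := IsOpenImmersion.lift_fac U.ι w (by rwa [Scheme.Opens.range_ι])
  calc (w ≫ f) ≫ inv (U.ι ≫ f) ≫ U.ι
      = IsOpenImmersion.lift U.ι w (by rwa [Scheme.Opens.range_ι]) ≫ ((U.ι ≫ f) ≫ inv (U.ι ≫ f)) ≫ U.ι := by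
        simp only [Category.assoc]
        rw [reassoc_of% hw']
    _ = w := by rw [IsIso.hom_inv_id, Category.id_comp, hw']

end ConstTorsLib
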