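import Groth.Agent.ConstTorsLib.Open
import Groth.Agent.ExtDescLib.Const
import Groth.Agent.DiagHomLib.Global

/-!
# Torsors under constant groups, seen as free transitive actions of abstract groups
-/

set_option autoImplicit false
set_option backward.isDefEq.respectTransparency false
universe u

open CategoryTheory CategoryTheory.Limits MonoidalCategory CartesianMonoidalCategory AlgebraicGeometry MonObj

namespace ConstTorsLib

/-- An action of `Z` on `E` over `P`, simply transitive on the points with values in fields. -/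
structure ZAct {P E : Scheme.{u}} (π : E ⟶ P) (Z : Type u) [Group Z] where
  /-- the action -/
  act : Z → (E ⟶ E)
  act_pi : ∀ z, act z ≫ π = π
  act_one : act 1 = 𝟙 E
  act_mul : ∀ z w, act (z * w) = act w ≫ act z
  unique : ∀ (K : Type u) [Field K] (a b : Spec (CommRingCat.of K) ⟶ E), a ≫ π = b ≫ π → ∃! z, a ≫ act z = b

theorem ZAct.isIso_act {P E : Scheme.{u}} {π : E ⟶ P} {Z : Type u} [Group Z] (A : ZAct π Z) (z : Z) :
    IsIso (A.act z) :=
  ⟨A.act z⁻¹, by rw [← A.act_mul, inv_mul_cancel, A.act_one], by rw [← A.act_mul, mul_inv_cancel, A.act_one]⟩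

variable {S : Scheme.{u}}

/-- If the fibres of `E ⟶ P` over the points of `S` have sections, then they consist of sheets. -/
theorem hasSheets_of_sections {P E : Scheme.{u}} (p : P ⟶ S) (π : E ⟶ P) {Z : Type u} [Group Z] (A : ZAct π Z)
    (h : ∀ s : S, ∃ σ : pullback p (S.fromSpecResidueField s) ⟶ E, σ ≫ π = pullback.fst p _) :
    HasSheets p π := by
  intro x
  obtain ⟨σ, hσ⟩ := h (p (π x))
  let β : Spec (E.residueField x) ⟶ pullback p (S.fromSpecResidueField (p (π x))) :=
    pullback.lift (E.fromSpecResidueField x ≫ π) (Spec.map ((π ≫ p).residueFieldMap x)) (by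
      rw [Category.assoc, ← Scheme.Hom.SpecMap_residueFieldMap_fromSpecResidueField]
      rfl)
  obtain ⟨z, hz, -⟩ := A.unique _ (β ≫ σ) (E.fromSpecResidueField x) (by
    rw [Category.assoc, hσ, pullback.lift_fst])
  refine ⟨σ ≫ A.act z, by rw [Category.assoc, A.act_pi, hσ], β (IsLocalRing.closedPoint (E.residueField x)), ?_⟩
  rw [← Scheme.Hom.comp_apply, ← Category.assoc, hz]
  exact Scheme.fromSpecResidueField_apply _ _

variable {Z : Type u} [Group Z] {G : Over S} [GrpObj G] (eG : G ≅ TwC.const S Z)

/-- A field valued point of a constant group is a constant. -/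
theorem exists_eq_piece {K : Type u} [Field K] (f : Spec (CommRingCat.of K) ⟶ S) (g : Over.mk f ⟶ G) :
    ∃ m, g = toUnit (Over.mk f) ≫ ExtDescLib.piece eG m := by
  let o : Spec (CommRingCat.of K) := IsLocalRing.closedPoint K
  obtain ⟨m, hm⟩ := ExtDescLib.exists_piece eG (g.left.base o)
  refine ⟨m, ExtDescLib.eq_piece eG g m ?_⟩
  rintro _ ⟨y, rfl⟩
  haveI : Subsingleton ↥(Over.mk f).left := inferInstanceAs (Subsingleton (PrimeSpectrum K))
  exact Subsingleton.elim y o ▸ hm

theorem piece_injective {K : Type u} [Field K] (f : Spec (CommRingCat.of K) ⟶ S) {m n : Z}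
    (h : toUnit (Over.mk f) ≫ ExtDescLib.piece eG m = toUnit (Over.mk f) ≫ ExtDescLib.piece eG n) : m = n := by
  let o : Spec (CommRingCat.of K) := IsLocalRing.closedPoint K
  refine ExtDescLib.piece_unique eG (x := (toUnit (Over.mk f) ≫ ExtDescLib.piece eG m).left.base o)
    ⟨(toUnit (Over.mk f)).left.base o, by rw [Over.comp_left]; rfl⟩ ?_
  rw [h]
  exact ⟨(toUnit (Over.mk f)).left.base o, by rw [Over.comp_left]; rfl⟩

omit [Group Z] [GrpObj G] in
theorem isSeparated_hom (eG : G ≅ TwC.const S Z) : IsSeparated G.hom := by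
  rw [← Over.w eG.hom]
  haveI : IsIso eG.hom.left := inferInstance
  haveI : IsSeparated (Sigma.desc fun _ : Z => 𝟙 S) := DiagHomLib.isSeparated_sigmaDesc _
  exact inferInstanceAs (IsSeparated (eG.hom.left ≫ Sigma.desc fun _ : Z => 𝟙 S))

section Torsor

variable {X : Over S} (a : AlgGrp.Action G X)

/-- The action of an element of `Z`. -/
noncomputable def translate (z : Z) : X ⟶ X := lift (toUnit X ≫ ExtDescLib.piece eG z) (𝟙 X) ≫ a.act

theorem comp_translate {T : Over S} (x : T ⟶ X) (z : Z) :
    x ≫ translate eG a z = lift (toUnit T ≫ ExtDescLib.piece eG z) x ≫ a.act := by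
  rw [translate, comp_lift_assoc, Category.comp_id, ← Category.assoc x, comp_toUnit]

theorem act_mul_apply {T : Over S} (g h : T ⟶ G) (x : T ⟶ X) :
    lift (g * h) x ≫ a.act = lift g (lift h x ≫ a.act) ≫ a.act := by
  have e := congrArg (fun φ => lift (lift g h) x ≫ φ) a.mul_act
  simp only [lift_whiskerRight_assoc, lift_lift_associator_hom_assoc, lift_whiskerLeft_assoc] at e
  rw [← e, Hom.mul_def]

theorem act_one_apply {T : Over S} (x : T ⟶ X) : lift (1 : T ⟶ G) x ≫ a.act = x := by
  have e := congrArg (fun φ => lift (toUnit T) x ≫ φ) a.one_act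
  simp only [lift_whiskerRight_assoc, lift_leftUnitor_hom] at e
  rw [Hom.one_def]
  exact e

variable (hG : TwC.IsConstGrp Z G eG)

include hG in
/-- A pseudo-torsor under a constant group gives an action of the abstract group. -/
theorem exists_zAct (h : NonAbH1.IsPseudoTorsorSch a) : Nonempty (ZAct X.hom Z) := by
  refine ⟨{
    act := fun z => (translate eG a z).left
    act_pi := fun z => Over.w _
    act_one := ?_
    act_mul := fun z w => ?_
    unique := ?_ }⟩
  · have : translate eG a 1 = 𝟙 X := by
      rw [translate, ExtDescLib.piece_one eG hG, MonObj.comp_one, act_one_apply]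
    rw [this, Over.id_left]
  · have : translate eG a (z * w) = translate eG a w ≫ translate eG a z := by
      rw [comp_translate, translate, translate, ← ExtDescLib.piece_mul eG hG, MonObj.comp_mul, act_mul_apply]
    rw [this, Over.comp_left]
  · intro K _ x y hxy
    let f : Spec (CommRingCat.of K) ⟶ S := x ≫ X.hom
    let x' : Over.mk f ⟶ X := Over.homMk x rfl
    let y' : Over.mk f ⟶ X := Over.homMk y hxy.symm
    haveI : IsIso (lift a.act (snd G X)) := h
    let q := lift y' x' ≫ inv (lift a.act (snd G X))
    have hq1 : q ≫ a.act = y' := by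
      have := congrArg (· ≫ fst X X) (show q ≫ lift a.act (snd G X) = lift y' x' by simp only [q, Category.assoc, IsIso.inv_hom_id, Category.comp_id])
      simpa using this
    have hq2 : q ≫ snd G X = x' := by
      have := congrArg (· ≫ snd X X) (show q ≫ lift a.act (snd G X) = lift y' x' by simp only [q, Category.assoc, IsIso.inv_hom_id, Category.comp_id])
      simpa using this
    obtain ⟨m, hm⟩ := exists_eq_piece eG f (q ≫ fst G X)
    have key : ∀ z, (x ≫ (translate eG a z).left = y ↔ lift (toUnit (Over.mk f) ≫ ExtDescLib.piece eG z) x' = q) :=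
      fun z => by
        constructor
        · intro e
          rw [← cancel_mono (lift a.act (snd G X)), comp_lift, comp_lift, lift_snd, hq1, hq2, ← comp_translate]
          congr 1
          exact Over.OverMorphism.ext e
        · intro e
          have e' : x' ≫ translate eG a z = y' := by rw [comp_translate, e, hq1]
          exact congrArg Over.Hom.left e'
    refine ⟨m, (key m).2 ?_, fun n hn => piece_injective eG f ?_⟩
    · rw [← hm, ← hq2]; exact CartesianMonoidalCategory.hom_ext _ _ (by simp) (by simp)
    · rw [← hm, ← (key n).1 hn, lift_fst]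

end Torsor

include eG in
/-- A torsor under a constant group is etale and separated. -/
theorem etale_and_isSeparated (E : NonAbH1.TorsorSch G Scheme.fppfPrecoverage) :
    Etale E.X.hom ∧ IsSeparated E.X.hom := by
  obtain ⟨hp, hl⟩ := E.isTorsor
  obtain ⟨T, hf, hsur, hlfp, ⟨t⟩⟩ := TorsExtLib.exists_cover hl
  have hQ : (@Surjective ⊓ @Flat ⊓ @LocallyOfFinitePresentation : MorphismProperty Scheme.{u}) T.hom :=
    ⟨⟨hsur, hf⟩, hlfp⟩
  haveI : Etale (snd E.X T).left :=
    TorsExtLib.property_of_point E.act hp (Q := @Etale) (ExtDescLib.etale_hom eG) t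
  haveI : IsSeparated (snd E.X T).left :=
    TorsExtLib.property_of_point E.act hp (Q := @IsSeparated) (isSeparated_hom eG) t
  refine ⟨MorphismProperty.of_isPullback_of_descendsAlong (P := @Etale)
    (TorsExtLib.isPullback_fst_snd E.X T).flip hQ inferInstance, ?_⟩
  have hd : (MorphismProperty.diagonal @UniversallyClosed) E.X.hom :=
    MorphismProperty.of_isPullback_of_descendsAlong (P := MorphismProperty.diagonal @UniversallyClosed)
      (TorsExtLib.isPullback_fst_snd E.X T).flip hQ
      (show UniversallyClosed (pullback.diagonal (snd E.X T).left) from inferInstance)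
  haveI : UniversallyClosed (pullback.diagonal E.X.hom) := hd
  exact ⟨IsClosedImmersion.of_isPreimmersion _ (Scheme.Hom.isClosedMap _).isClosed_range⟩

end ConstTorsLib
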