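import Groth.Agent.ConstTorsLib.Lift
import Groth.Agent.ExtDescLib.Basic

/-!
# Group laws transported from the generic fibre
-/

set_option autoImplicit false
set_option backward.isDefEq.respectTransparency false
set_option linter.style.haveILetI false
universe u

open CategoryTheory CategoryTheory.Limits AlgebraicGeometry MonoidalCategory CartesianMonoidalCategory MonObj

namespace ConstTorsLib

variable {S : Scheme.{u}} [IrreducibleSpace S] {ξ : S} {Z : Type u} [Group Z] {G P : Over S} [GrpObj G] [GrpObj P]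
  [Smooth P.hom] {E' : Over (Spec (S.residueField ξ))} [GrpObj E']

/-- An extension of the generic fibre with a normalised section extends. -/
theorem exists_extension (hS : ∀ s : S, CAlg2.IsGeomUnibranch (S.presheaf.stalk s))
    (hξ : IsGenericPoint ξ (Set.univ : Set S)) (eG : G ≅ TwC.const S Z)
    (u' : Red.bc (S.fromSpecResidueField ξ) G ⟶ E') (v' : E' ⟶ Red.bc (S.fromSpecResidueField ξ) P)
    [IsMonHom u'] [IsMonHom v'] (huv : u' ≫ v' = 1) (hpb : IsPullback (fst E' _) ((E' ◁ u') ≫ μ[E']) v' v')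
    (s' : Red.bc (S.fromSpecResidueField ξ) P ⟶ E') (hs' : s' ≫ v' = 𝟙 _)
    (hs1 : η[Red.bc (S.fromSpecResidueField ξ) P] ≫ s' = η[E']) :
    ∃ (E : Over S) (_ : GrpObj E) (u : G ⟶ E) (v : E ⟶ P) (φ : Red.bc (S.fromSpecResidueField ξ) E ≅ E'),
      NonAbH1.IsExactSeq Scheme.fppfPrecoverage u v ∧ IsMonHom φ.hom ∧
        (Over.pullback (S.fromSpecResidueField ξ)).map u ≫ φ.hom = u' ∧
        φ.hom ≫ v' = (Over.pullback (S.fromSpecResidueField ξ)).map v := by
  let F := Over.pullback (S.fromSpecResidueField ξ)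
  haveI : Etale G.hom := ExtDescLib.etale_hom eG
  haveI : Smooth G.hom := inferInstance
  let Eo : Over S := G ⊗ P
  -- smoothness of products
  have hsm : ∀ {A B : Over S}, Smooth A.hom → Smooth B.hom → Smooth (A ⊗ B).hom := fun {A B} hA hB => by
    haveI : Smooth (fst A B).left := TorsExtLib.property_fst (Q := @Smooth) A B hB
    rw [← Over.w (fst A B)]
    infer_instance
  have hE : Smooth Eo.hom := hsm inferInstance inferInstance
  have hU : Smooth (𝟙_ (Over S)).hom := by show Smooth (𝟙 S); infer_instance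
  let θ₀ : F.obj Eo ⟶ E' := (F.map (snd G P) ≫ s') * (F.map (fst G P) ≫ u')
  have hone : ∀ {T : Over (Spec (S.residueField ξ))} (g : T ⟶ Red.bc (S.fromSpecResidueField ξ) G),
      (g ≫ u') ≫ v' = 1 := fun g => by rw [Category.assoc, huv, MonObj.comp_one]
  have hθv : θ₀ ≫ v' = F.map (snd G P) := by
    simp only [θ₀, MonObj.mul_comp, hone, _root_.mul_one]
    exact (Category.assoc _ _ _).trans ((congrArg (F.map (snd G P) ≫ ·) hs').trans (Category.comp_id _))
  -- the inverse
  obtain ⟨r, hr, -⟩ := ExtDescLib.exists_ker u' v' hpb (v' ≫ s') (𝟙 E') (by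
    rw [Category.assoc, hs', Category.comp_id, Category.id_comp])
  let θinv : E' ⟶ F.obj Eo := lift r v' ≫ inv (CartesianMonoidalCategory.prodComparison F G P)
  have hi1 : θinv ≫ F.map (fst G P) = r := by
    rw [Category.assoc, CartesianMonoidalCategory.inv_prodComparison_map_fst, lift_fst]
  have hi2 : θinv ≫ F.map (snd G P) = v' := by
    rw [Category.assoc, CartesianMonoidalCategory.inv_prodComparison_map_snd, lift_snd]
  have hFext : ∀ {T : Over (Spec (S.residueField ξ))} (a b : T ⟶ F.obj Eo), a ≫ F.map (fst G P) = b ≫ F.map (fst G P) →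
      a ≫ F.map (snd G P) = b ≫ F.map (snd G P) → a = b := fun a b h1 h2 => by
    rw [← cancel_mono (CartesianMonoidalCategory.prodComparison F G P)]
    exact CartesianMonoidalCategory.hom_ext _ _ (by simpa [CartesianMonoidalCategory.prodComparison_fst] using h1)
      (by simpa [CartesianMonoidalCategory.prodComparison_snd] using h2)
  let θ : F.obj Eo ≅ E' := {
    hom := θ₀
    inv := θinv
    hom_inv_id := by
      refine hFext _ _ ?_ (by rw [Category.assoc, hi2, hθv, Category.id_comp])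
      rw [Category.assoc, hi1, Category.id_comp]
      have h := congrArg (θ₀ ≫ ·) hr
      simp only [MonObj.comp_mul, Category.comp_id, ← Category.assoc, hθv] at h
      obtain ⟨g, -, huniq⟩ := ExtDescLib.exists_ker u' v' hpb (F.map (snd G P) ≫ s') θ₀ (by
        rw [Category.assoc, hs', Category.comp_id, hθv])
      exact (huniq _ h).trans (huniq _ rfl).symm
    inv_hom_id := by
      simp only [θ₀, MonObj.comp_mul, ← Category.assoc, hi1, hi2]
      exact hr }
  -- the comparison map to the generic fibre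
  let ψ : ∀ {X : Over S}, (X ⟶ Eo) → (F.obj X ⟶ E') := fun f => F.map f ≫ θ.hom
  have hψinj : ∀ {X : Over S}, Smooth X.hom → ∀ f g : X ⟶ Eo, f ≫ snd G P = g ≫ snd G P → ψ f = ψ g → f = g :=
    fun {X} hX f g h2 hψ => CartesianMonoidalCategory.hom_ext _ _ (by
      haveI := hX
      refine eq_of_generic hξ eG ?_
      have h : F.map f ≫ θ.hom = F.map g ≫ θ.hom := hψ
      have h' : F.map f = F.map g :=
        calc F.map f = (F.map f ≫ θ.hom) ≫ θ.inv := by rw [Category.assoc, θ.hom_inv_id, Category.comp_id]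
          _ = (F.map g ≫ θ.hom) ≫ θ.inv := by rw [h]
          _ = F.map g := by rw [Category.assoc, θ.hom_inv_id, Category.comp_id]
      show F.map (f ≫ fst G P) = F.map (g ≫ fst G P)
      rw [F.map_comp, F.map_comp, h']) h2
  have hψsurj : ∀ {X : Over S}, Smooth X.hom → ∀ (p : X ⟶ P) (k : F.obj X ⟶ E'), k ≫ v' = F.map p →
      ∃ f : X ⟶ Eo, f ≫ snd G P = p ∧ ψ f = k := fun {X} hX p k hk => by
    haveI := hX
    obtain ⟨f, hf⟩ := exists_extend hS hξ eG (X := X) (k ≫ θ.inv ≫ F.map (fst G P))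
    refine ⟨lift f p, lift_snd _ _, ?_⟩
    show F.map (lift f p) ≫ θ.hom = k
    rw [← Iso.eq_comp_inv]
    refine hFext _ _ ?_ ?_
    · rw [← F.map_comp, lift_fst, hf]
      simp only [Category.assoc]
    · rw [← F.map_comp, lift_snd, Category.assoc, show θ.inv ≫ F.map (snd G P) = v' from hi2, hk]
  have hψcomp : ∀ {X Y : Over S} (g : X ⟶ Y) (f : Y ⟶ Eo), ψ (g ≫ f) = F.map g ≫ ψ f := fun g f => by
    simp only [ψ, F.map_comp, Category.assoc]
  have hψv : ∀ {X : Over S} (f : X ⟶ Eo), ψ f ≫ v' = F.map (f ≫ snd G P) := fun f => by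
    show (F.map f ≫ θ₀) ≫ v' = _
    rw [Category.assoc, hθv, F.map_comp]
  -- the structure maps
  obtain ⟨e, he2, heψ⟩ := hψsurj hU 1 1 (by rw [MonObj.one_comp, Functor.map_one])
  obtain ⟨m, hm2, hmψ⟩ := hψsurj (hsm hE hE) ((fst Eo Eo ≫ snd G P) * (snd Eo Eo ≫ snd G P))
    (ψ (fst Eo Eo) * ψ (snd Eo Eo)) (by rw [MonObj.mul_comp, Functor.map_mul, hψv, hψv])
  obtain ⟨ν, hν2, hνψ⟩ := hψsurj hE (snd G P)⁻¹ (ψ (𝟙 Eo))⁻¹ (by
    rw [GrpObj.inv_comp, hψv, Category.id_comp]
    exact (map_inv F.homMonoidHom (snd G P)).symm)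
  have hmul2 : ∀ {X : Over S} (f g : X ⟶ Eo), (lift f g ≫ m) ≫ snd G P = (f ≫ snd G P) * (g ≫ snd G P) :=
    fun f g => by rw [Category.assoc, hm2, MonObj.comp_mul, lift_fst_assoc, lift_snd_assoc]
  have hmulψ : ∀ {X : Over S} (f g : X ⟶ Eo), ψ (lift f g ≫ m) = ψ f * ψ g := fun f g => by
    rw [hψcomp, hmψ, MonObj.comp_mul, ← hψcomp, ← hψcomp, lift_fst, lift_snd]
  have hone2 : ∀ {X : Over S}, (toUnit X ≫ e) ≫ snd G P = 1 := fun {X} => by
    rw [Category.assoc, he2, MonObj.comp_one]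
  have honeψ : ∀ {X : Over S}, ψ (toUnit X ≫ e) = 1 := fun {X} => by rw [hψcomp, heψ, MonObj.comp_one]
  letI : GrpObj Eo := {
    one := e
    mul := m
    inv := ν
    one_mul := by
      refine hψinj (hsm hU hE) _ _ ?_ ?_ <;>
        rw [show e ▷ Eo = lift (fst (𝟙_ _) Eo ≫ e) (snd (𝟙_ _) Eo) from
          CartesianMonoidalCategory.hom_ext _ _ (by rw [whiskerRight_fst, lift_fst]) (by rw [whiskerRight_snd, lift_snd]),
          toUnit_unique (fst (𝟙_ _) Eo) (toUnit _)]
      · rw [hmul2, hone2, _root_.one_mul]; rfl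
      · rw [hmulψ, honeψ, _root_.one_mul]; rfl
    mul_one := by
      refine hψinj (hsm hE hU) _ _ ?_ ?_ <;>
        rw [show Eo ◁ e = lift (fst Eo (𝟙_ _)) (snd Eo (𝟙_ _) ≫ e) from
          CartesianMonoidalCategory.hom_ext _ _ (by rw [whiskerLeft_fst, lift_fst]) (by rw [whiskerLeft_snd, lift_snd]),
          toUnit_unique (snd Eo (𝟙_ _)) (toUnit _)]
      · rw [hmul2, hone2, _root_.mul_one]; rfl
      · rw [hmulψ, honeψ, _root_.mul_one]; rfl
    mul_assoc := by
      have h1 : m ▷ Eo = lift (lift (fst _ Eo ≫ fst Eo Eo) (fst _ Eo ≫ snd Eo Eo) ≫ m) (snd _ Eo) :=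
        CartesianMonoidalCategory.hom_ext _ _ (by
          rw [whiskerRight_fst, lift_fst, ← comp_lift, lift_fst_snd, Category.comp_id])
          (by rw [whiskerRight_snd, lift_snd])
      have h2 : (α_ Eo Eo Eo).hom ≫ Eo ◁ m =
          lift (fst _ Eo ≫ fst Eo Eo) (lift (fst _ Eo ≫ snd Eo Eo) (snd _ Eo) ≫ m) :=
        CartesianMonoidalCategory.hom_ext _ _ (by simp) (by
          rw [Category.assoc, whiskerLeft_snd, lift_snd, ← Category.assoc]
          congr 1
          exact CartesianMonoidalCategory.hom_ext _ _ (by simp) (by simp))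
      rw [← Category.assoc (α_ Eo Eo Eo).hom, h1, h2]
      refine hψinj (hsm (hsm hE hE) hE) _ _ ?_ ?_
      · simp only [hmul2, _root_.mul_assoc]
      · simp only [hmulψ, _root_.mul_assoc]
    left_inv := by
      refine hψinj hE _ _ ?_ ?_
      · rw [hmul2, hone2, hν2, Category.id_comp, inv_mul_cancel]
      · rw [hmulψ, honeψ, hνψ, inv_mul_cancel]
    right_inv := by
      refine hψinj hE _ _ ?_ ?_
      · rw [hmul2, hone2, hν2, Category.id_comp, mul_inv_cancel]
      · rw [hmulψ, honeψ, hνψ, mul_inv_cancel] }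
  letI : MonObj Eo := GrpObj.toMonObj
  have hψmul : ∀ {X : Over S} (f g : X ⟶ Eo), ψ (f * g) = ψ f * ψ g := fun f g => hmulψ f g
  have hsndmul : ∀ {X : Over S} (f g : X ⟶ Eo), (f * g) ≫ snd G P = (f ≫ snd G P) * (g ≫ snd G P) :=
    fun f g => hmul2 f g
  haveI : IsMonHom (snd G P) := {
    one_hom := he2.trans (Hom.one_def.trans (by rw [toUnit_unique (toUnit (𝟙_ (Over S))) (𝟙 _), Category.id_comp]))
    mul_hom := hm2.trans (by rw [Hom.mul_def]; congr 1 <;> exact CartesianMonoidalCategory.hom_ext _ _ (by simp) (by simp)) }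
  let u : G ⟶ Eo := lift (𝟙 G) (1 : G ⟶ P)
  have hu2 : u ≫ snd G P = 1 := lift_snd _ _
  have huψ : ψ u = u' := by
    show F.map u ≫ θ₀ = u'
    simp only [θ₀, MonObj.comp_mul, ← Category.assoc, ← F.map_comp, u, lift_fst, lift_snd, F.map_id,
      Functor.map_one, Category.id_comp]
    rw [show (1 : F.obj G ⟶ F.obj P) = toUnit _ ≫ η[F.obj P] from Hom.one_def, Category.assoc]
    have h : η[F.obj P] ≫ s' = η[E'] := hs1
    rw [h, ← Hom.one_def, _root_.one_mul]
  haveI : IsMonHom u := {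
    one_hom := by
      refine hψinj hU _ _ ?_ ?_
      · rw [Category.assoc, hu2, MonObj.comp_one]; exact he2.symm
      · rw [hψcomp, huψ]
        exact (show F.map η[G] ≫ u' = (1 : F.obj (𝟙_ (Over S)) ⟶ E') by
          rw [MonObj.one_eq_one, Functor.map_one, MonObj.one_comp]).trans heψ.symm
    mul_hom := by
      refine hψinj (hsm inferInstance inferInstance) _ _ ?_ ?_
      · rw [Category.assoc, hu2, MonObj.comp_one, Category.assoc]
        show 1 = (u ⊗ₘ u) ≫ m ≫ snd G P
        rw [hm2, MonObj.comp_mul, tensorHom_fst_assoc, tensorHom_snd_assoc, hu2, MonObj.comp_one, MonObj.comp_one,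
          _root_.one_mul]
      · show ψ (μ ≫ u) = ψ ((u ⊗ₘ u) ≫ m)
        rw [hψcomp, hψcomp, hmψ, MonObj.comp_mul, ← hψcomp (u ⊗ₘ u) (fst Eo Eo), ← hψcomp (u ⊗ₘ u) (snd Eo Eo), tensorHom_fst, tensorHom_snd,
          hψcomp,
          hψcomp, huψ, ← MonObj.mul_comp, ← Functor.map_mul]
        congr 2
        rw [Hom.mul_def, lift_fst_snd, Category.id_comp] }
  refine ⟨Eo, inferInstance, u, snd G P, θ, ⟨inferInstance, inferInstance, hu2, ?_, ?_⟩,
    { one_hom := ?_, mul_hom := ?_ }, huψ, hθv⟩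
  · -- exactness
    have hr : (Eo ◁ u) ≫ μ[Eo] = lift ((fst Eo G ≫ fst G P) * snd Eo G) (fst Eo G ≫ snd G P) := by
      have e1 : (Eo ◁ u) ≫ μ[Eo] = fst Eo G * (snd Eo G ≫ u) := by
        rw [Hom.mul_def]; congr 1 <;> exact CartesianMonoidalCategory.hom_ext _ _ (by simp) (by simp)
      rw [e1]
      refine hψinj (hsm hE inferInstance) _ _ ?_ ?_
      · rw [hsndmul, Category.assoc, hu2, MonObj.comp_one, _root_.mul_one, lift_snd]
      · rw [hψmul, hψcomp, huψ]
        show F.map (fst Eo G) ≫ θ₀ * F.map (snd Eo G) ≫ u' = F.map _ ≫ θ₀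
        simp only [θ₀, MonObj.comp_mul, ← Category.assoc, ← F.map_comp, lift_fst, lift_snd, Functor.map_mul,
          MonObj.mul_comp, _root_.mul_assoc]
    refine ⟨⟨by rw [hr, lift_snd]⟩, ⟨PullbackCone.IsLimit.mk _
      (fun c => lift c.fst ((c.fst ≫ fst G P)⁻¹ * (c.snd ≫ fst G P))) (fun c => lift_fst _ _) (fun c => ?_)
      (fun c w h1 h2 => ?_)⟩⟩
    · rw [hr, comp_lift, MonObj.comp_mul, lift_fst_assoc, lift_snd, lift_fst_assoc, mul_inv_cancel_left,
        c.condition, ← comp_lift, lift_fst_snd, Category.comp_id]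
    · refine CartesianMonoidalCategory.hom_ext _ _ (h1.trans (lift_fst _ _).symm) ?_
      rw [hr, comp_lift, MonObj.comp_mul, ← Category.assoc, h1] at h2
      have h3 := congrArg (· ≫ fst G P) h2
      simp only [lift_fst] at h3
      rw [lift_snd, ← h3, inv_mul_cancel_left]
  · -- the section
    refine ⟨Presieve.ofArrows (fun _ : PUnit.{u + 1} => P.left) (fun _ => 𝟙 P.left), ?_, ?_⟩
    · rw [Presieve.ofArrows_pUnit]
      exact Precoverage.mem_coverings_of_isIso _
    · rintro S' f ⟨⟨⟩⟩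
      exact ⟨(lift (1 : P ⟶ G) (𝟙 P)).left, by
        show (lift (1 : P ⟶ G) (𝟙 P)).left ≫ (snd G P).left = 𝟙 _
        rw [← Over.comp_left, lift_snd]; rfl⟩
  · rw [Functor.obj.η_def, Category.assoc]
    exact (congrArg (Functor.LaxMonoidal.ε F ≫ ·) heψ).trans (by rw [MonObj.comp_one, MonObj.one_eq_one])
  · rw [Functor.obj.μ_def, Category.assoc]
    show Functor.LaxMonoidal.μ F Eo Eo ≫ ψ m = _
    rw [hmψ, MonObj.comp_mul, Hom.mul_def]
    congr 1
    refine CartesianMonoidalCategory.hom_ext _ _ ?_ ?_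
    · rw [lift_fst, tensorHom_fst, ← Category.assoc, Functor.Monoidal.μ_fst]
    · rw [lift_snd, tensorHom_snd, ← Category.assoc, Functor.Monoidal.μ_snd]

end ConstTorsLib
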