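import Groth.Agent.ConstTorsLib.Fibre
import Groth.Agent.HensFormalLib.SmoothBC
import Groth.Prelude.Def_CAlg2

/-!
# Torsors under torsion free constant groups over unibranch schemes
-/

set_option autoImplicit false
set_option backward.isDefEq.respectTransparency false
set_option linter.style.haveILetI false
universe u

open CategoryTheory CategoryTheory.Limits AlgebraicGeometry TopologicalSpace Topology

namespace ConstTorsLib

/-- Every point has a greatest generisation. -/
def HasGen (X : Scheme.{u}) : Prop := ∀ x : X, ∃ θ : X, θ ⤳ x ∧ ∀ y : X, y ⤳ x → θ ⤳ y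

theorem hasGen_of_smooth {X S : Scheme.{u}} (f : X ⟶ S) [Smooth f]
    (hS : ∀ s : S, CAlg2.IsGeomUnibranch (S.presheaf.stalk s)) : HasGen X := by
  intro x
  have hu := (HensFormalLib.geomUnibranch_stalk_of_smooth f x (hS _)).1.1.1
  haveI : (nilradical (X.presheaf.stalk x)).IsPrime := (Ideal.Quotient.isDomain_iff_prime _).1 hu
  let b : Spec (X.presheaf.stalk x) :=
    (⟨nilradical (X.presheaf.stalk x), inferInstance⟩ : PrimeSpectrum (X.presheaf.stalk x))
  refine ⟨X.fromSpecStalk x b, ?_, fun y hy => ?_⟩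
  · have h : X.fromSpecStalk x b ∈ Set.range (X.fromSpecStalk x) := ⟨b, rfl⟩
    rwa [X.range_fromSpecStalk] at h
  · obtain ⟨c, rfl⟩ : y ∈ Set.range (X.fromSpecStalk x) := by rw [X.range_fromSpecStalk]; exact hy
    exact ((PrimeSpectrum.le_iff_specializes b c).1 (nilradical_le_prime c.asIdeal)).map (X.fromSpecStalk x).continuous

theorem HasGen.of_isOpenImmersion {X Y : Scheme.{u}} (h : HasGen Y) (i : X ⟶ Y) [IsOpenImmersion i] : HasGen X := by
  intro x
  obtain ⟨θ, hθ, hmax⟩ := h (i x)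
  obtain ⟨θ', rfl⟩ : θ ∈ Set.range i.base := hθ.mem_open i.opensRange.2 ⟨x, rfl⟩
  exact ⟨θ', i.isEmbedding.isInducing.specializes_iff.1 hθ,
    fun y hy => i.isEmbedding.isInducing.specializes_iff.1 (hmax _ (hy.map i.continuous))⟩

section Pieces

variable {S P : Scheme.{u}} [IrreducibleSpace S] (f : P ⟶ S) [Smooth f] (hP : HasGen P)

/-- The maximal generisation of a point. -/
noncomputable def maxGen (y : P) : P := (hP y).choose

omit [IrreducibleSpace S] [Smooth f] in
theorem maxGen_eq_of_specializes {θ y : P} (h : θ ⤳ y) : maxGen hP θ = maxGen hP y := by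
  obtain ⟨h1, h2⟩ := (hP y).choose_spec
  obtain ⟨g1, g2⟩ := (hP θ).choose_spec
  exact ((g2 _ (h2 θ h)).antisymm (h2 _ (g1.trans h))).eq

include f in
theorem finite_maxGen {A : S.Opens} (hA : IsAffineOpen A) {W : P.Opens} (hW : IsAffineOpen W) (hWA : W ≤ f ⁻¹ᵁ A) :
    (maxGen hP '' (W : Set P)).Finite := by
  haveI : IsAffine W.toScheme := hW
  haveI : IsAffine A.toScheme := hA
  let s0 := genericPoint S
  let X := pullback (W.ι ≫ f) (S.fromSpecResidueField s0)
  let g : X ⟶ Spec (S.residueField s0) := pullback.snd _ _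
  let pr : X ⟶ W.toScheme := pullback.fst _ _
  haveI : IsLocallyNoetherian X := LocallyOfFiniteType.isLocallyNoetherian g
  have hr : Set.range pr.base = (W.ι ≫ f).base ⁻¹' {s0} := by
    rw [Scheme.Pullback.range_fst, Scheme.range_fromSpecResidueField]
  haveI : CompactSpace X := by
    refine ⟨?_⟩
    rw [pr.isEmbedding.isCompact_iff, Set.image_univ, hr]
    by_cases hs : s0 ∈ A
    · have h := (f.resLE A W hWA).isCompact_preimage_singleton ⟨s0, hs⟩
      convert h using 1
      ext w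
      simp only [Set.mem_preimage, Set.mem_singleton_iff]
      rw [← Scheme.Hom.resLE_comp_ι f hWA]
      exact ⟨fun e => Subtype.ext e, fun e => congrArg Subtype.val e⟩
    · convert isCompact_empty
      ext w
      simp only [Set.mem_preimage, Set.mem_singleton_iff, Set.mem_empty_iff_false, iff_false]
      intro e
      exact hs (e ▸ hWA w.2)
  haveI : IsNoetherian X := {}
  have hfin := NoetherianSpace.finite_irreducibleComponents (α := X)
  refine (hfin.biUnion (t := fun C => {θ : P | ∃ c : X, IsGenericPoint c C ∧ θ = W.ι (pr c)}) fun C _ => ?_).subset ?_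
  · refine Set.Subsingleton.finite ?_
    rintro _ ⟨c, hc, rfl⟩ _ ⟨d, hd, rfl⟩
    rw [hc.eq hd]
  rintro _ ⟨y, hy, rfl⟩
  obtain ⟨h1, h2⟩ := (hP y).choose_spec
  have hgW : maxGen hP y ∈ W := h1.mem_open W.2 hy
  obtain ⟨y', hy', hy's⟩ := UnramGULib.exists_generization_of_flat f (maxGen hP y)
    (genericPoint_specializes (f (maxGen hP y)))
  have hfg : f (maxGen hP y) = s0 := by
    have e : y' = maxGen hP y := ((h2 y' (hy'.trans h1)).antisymm hy').eq.symm
    rw [e] at hy's
    exact hy's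
  obtain ⟨x, hx⟩ : (⟨maxGen hP y, hgW⟩ : W.toScheme) ∈ Set.range pr.base := by rw [hr]; exact hfg
  obtain ⟨c, hc⟩ := QuasiSober.sober (isIrreducible_irreducibleComponent (x := x)) isClosed_irreducibleComponent
  refine Set.mem_biUnion (irreducibleComponent_mem_irreducibleComponents x) ⟨c, hc, ?_⟩
  have hsp := ((hc.specializes mem_irreducibleComponent).map pr.continuous).map W.ι.continuous
  rw [hx] at hsp
  exact (Specializes.antisymm (h2 _ (hsp.trans h1)) hsp).eq

include f in
/-- The points with a given greatest generisation form an open set. -/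
theorem isOpen_maxGen_eq (η : P) : IsOpen {y : P | maxGen hP y = η} := by
  rw [isOpen_iff_forall_mem_open]
  intro y hy
  obtain ⟨A, hA, hyA, -⟩ := exists_isAffineOpen_mem_and_subset (X := S) (x := f y) (U := ⊤) trivial
  obtain ⟨W, hW, hyW, hWA⟩ := exists_isAffineOpen_mem_and_subset (x := y) (U := f ⁻¹ᵁ A) hyA
  have hfin := (finite_maxGen f hP hA hW hWA).sdiff (t := {η})
  refine ⟨(W : Set P) \ ⋃ z ∈ maxGen hP '' (W : Set P) \ {η}, closure {z}, fun w hw => ?_,
    W.2.sdiff (hfin.isClosed_biUnion fun z _ => isClosed_closure), hyW, fun hmem => ?_⟩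
  · by_contra hne
    exact hw.2 (Set.mem_biUnion (x := maxGen hP w) ⟨⟨w, hw.1, rfl⟩, hne⟩
      (specializes_iff_mem_closure.1 (hP w).choose_spec.1))
  · obtain ⟨_, ⟨⟨w, hw, rfl⟩, hne⟩, hzy⟩ := Set.mem_iUnion₂.1 hmem
    apply hne
    rw [Set.mem_singleton_iff]
    have h1 := maxGen_eq_of_specializes hP (specializes_iff_mem_closure.2 hzy)
    have h2 : maxGen hP (maxGen hP w) = maxGen hP w := maxGen_eq_of_specializes hP (hP w).choose_spec.1
    exact h2.symm.trans (h1.trans hy)

end Pieces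

/-- A torsor under a torsion free group is trivial if points have greatest generisations. -/
theorem exists_section_of_hasGen {S P E : Scheme.{u}} [IrreducibleSpace S] (f : P ⟶ S) [Smooth f]
    (hP : HasGen P) (π : E ⟶ P) [Etale π] [IsSeparated π] [Surjective π] (hE : HasGen E)
    {Z : Type u} [Group Z] (A : ZAct π Z) (hZ : ∀ z : Z, IsOfFinOrder z → z = 1) :
    ∃ g : P ⟶ E, g ≫ π = 𝟙 P := by
  let M := Set.range (maxGen hP)
  -- the pieces of `P` are open
  have hopen : ∀ η : P, IsOpen {y : P | maxGen hP y = η} := isOpen_maxGen_eq f hP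
  let Q : M → P.Opens := fun η => ⟨_, hopen η.1⟩
  have hsec : ∀ η : M, ∃ g : (Q η).toScheme ⟶ E, g ≫ π = (Q η).ι := fun η => by
    obtain ⟨y₀, hy₀⟩ := η.2
    have hgen : ∀ y : (Q η).toScheme, η.1 ⤳ y.1 := fun y =>
      (show maxGen hP y.1 = η.1 from y.2) ▸ (hP y.1).choose_spec.1
    have hη : η.1 ∈ Q η := show maxGen hP η.1 = η.1 by
      rw [← hy₀]; exact maxGen_eq_of_specializes hP (hP y₀).choose_spec.1
    haveI : IrreducibleSpace (Q η).toScheme := by
      have hd : ∀ y : (Q η).toScheme, (⟨η.1, hη⟩ : (Q η).toScheme) ⤳ y := fun y =>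
        (Q η).ι.isEmbedding.isInducing.specializes_iff.1 (hgen y)
      haveI : PreirreducibleSpace (Q η).toScheme := ⟨fun u v hu hv ⟨a, _, ha⟩ ⟨b, _, hb⟩ =>
        ⟨⟨η.1, hη⟩, trivial, (hd a).mem_open hu ha, (hd b).mem_open hv hb⟩⟩
      exact { toNonempty := ⟨⟨η.1, hη⟩⟩ }
    obtain ⟨A'⟩ := A.exists_baseChange (Q η).ι
    obtain ⟨g, hg⟩ := exists_section_of_gen (pullback.snd π (Q η).ι) A' hZ
      (hE.of_isOpenImmersion (pullback.fst π (Q η).ι))
    exact ⟨g ≫ pullback.fst π (Q η).ι, by rw [Category.assoc, pullback.condition, reassoc_of% hg]⟩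
  choose σ hσ using hsec
  have hcov : IsOpenCover Q := top_le_iff.mp fun y _ => Opens.mem_iSup.mpr ⟨⟨maxGen hP y, y, rfl⟩, rfl⟩
  let 𝒰 := Scheme.openCoverOfIsOpenCover P Q hcov
  have hagree : ∀ a b : M, pullback.fst (𝒰.f a) (𝒰.f b) ≫ σ a = pullback.snd (𝒰.f a) (𝒰.f b) ≫ σ b := fun a b => by
    by_cases h : a = b
    · subst h
      haveI : Mono (𝒰.f a) := inferInstance
      rw [fst_eq_snd_of_mono_eq]
    · haveI : IsEmpty (pullback (𝒰.f a) (𝒰.f b) : Scheme.{u}) := ⟨fun z => h (Subtype.ext (by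
        have e := congrArg (fun φ : pullback (𝒰.f a) (𝒰.f b) ⟶ P => φ z) pullback.condition
        have ea : maxGen hP ((pullback.fst (𝒰.f a) (𝒰.f b) ≫ 𝒰.f a) z) = a.1 :=
          ((pullback.fst (𝒰.f a) (𝒰.f b)) z).2
        have eb : maxGen hP ((pullback.snd (𝒰.f a) (𝒰.f b) ≫ 𝒰.f b) z) = b.1 :=
          ((pullback.snd (𝒰.f a) (𝒰.f b)) z).2
        rw [← ea, ← eb]
        exact congrArg (maxGen hP) e))⟩
      exact isInitialOfIsEmpty.hom_ext _ _
  refine ⟨𝒰.glueMorphisms σ hagree, 𝒰.hom_ext _ _ fun a => ?_⟩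
  rw [← Category.assoc, 𝒰.ι_glueMorphisms, hσ, Category.comp_id]
  rfl

/-- A torsor under a torsion free group on a smooth scheme over an irreducible geometrically unibranch scheme is
trivial. -/
theorem exists_section_smooth {S P E : Scheme.{u}} [IrreducibleSpace S] (f : P ⟶ S) [Smooth f]
    (hS : ∀ s : S, CAlg2.IsGeomUnibranch (S.presheaf.stalk s)) (π : E ⟶ P) [Etale π] [IsSeparated π] [Surjective π]
    {Z : Type u} [Group Z] (A : ZAct π Z) (hZ : ∀ z : Z, IsOfFinOrder z → z = 1) :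
    ∃ g : P ⟶ E, g ≫ π = 𝟙 P :=
  exists_section_of_hasGen f (hasGen_of_smooth f hS) π (hasGen_of_smooth (π ≫ f) hS) A hZ

end ConstTorsLib
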